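import Groth.Agent.Algz7.FormalIso
import Groth.Agent.AmpleVan.AdicGen
import Groth.Agent.FComplLib.LocFreeLevels
import Groth.Agent.AmpleX.FibreCrit

/-!
# Algebraization of invertible modules and of ampleness
-/

set_option linter.style.haveILetI false
set_option linter.unusedSectionVars false
set_option backward.isDefEq.respectTransparency false
set_option backward.isDefEq.respectTransparency.types false
set_option maxHeartbeats 1000000

universe u

open CategoryTheory CategoryTheory.Limits AlgebraicGeometry Opposite TopologicalSpace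

attribute [local instance] HasDerivedCategory.standard

noncomputable section

namespace Groth.Agent.Algz7

open Groth.Agent

variable {A : Type u} [CommRing A] {Y : Scheme.{u}} [Y.Over (Spec (CommRingCat.of A))]

theorem baseIdeal_pow (J : Ideal A) (n : ℕ) : (baseIdeal (X := Y) J) ^ n = baseIdeal (J ^ n) := by
  ext1
  rw [Scheme.IdealSheafData.ideal_pow]
  funext U
  exact (Ideal.map_pow _ _ _).symm

theorem ker_eq_baseIdeal {Z : Scheme.{u}} (w : Z ⟶ Y) [IsClosedImmersion w] (J : Ideal A)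
    {q : Z ⟶ Spec (CommRingCat.of (A ⧸ J))}
    (sq : IsPullback w q (Y ↘ Spec (CommRingCat.of A)) (Spec.map (CommRingCat.ofHom (Ideal.Quotient.mk J)))) :
    w.ker = baseIdeal J := by
  ext1
  funext U
  exact AmpleVan.ker_ideal_of_isPullback sq U

variable [IsNoetherianRing A] [IsProper (Y ↘ Spec (CommRingCat.of A))]

/-- Compatible invertible modules on the thickenings of a proper scheme are algebraic. -/
theorem exists_algebraization_invertible (I : Ideal A) [IsAdicComplete I A] (S : AmpleVan.AdicSys A I)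
    (w : ∀ n, S.X n ⟶ Y)
    (sq : ∀ n, IsPullback (w n) (S.p n) (Y ↘ Spec (CommRingCat.of A)) (CohB1.specQuot I n))
    (hw : ∀ n, w n = S.i n ≫ w (n + 1))
    (L : ∀ n, (S.X n).Modules) (hL : ∀ n, PicF.IsInvertible (L n))
    (φ : ∀ n, (Scheme.Modules.pullback (S.i n)).obj (L (n + 1)) ≅ L n) :
    ∃ M : Y.Modules, PicF.IsInvertible M ∧ ∀ n, Nonempty ((Scheme.Modules.pullback (w n)).obj M ≅ L n) := by
  haveI : ∀ n, IsClosedImmersion (w n) := fun n =>
    MorphismProperty.of_isPullback (sq n).flip (AmpleVan.AdicSys.closed_specQuot I n)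
  haveI : IsLocallyNoetherian Y := LocallyOfFiniteType.isLocallyNoetherian (Y ↘ Spec (CommRingCat.of A))
  haveI : ∀ n, IsLocallyNoetherian (S.X n) := fun n => LocallyOfFiniteType.isLocallyNoetherian (w n)
  have hover : ∀ n, w n ≫ (Y ↘ Spec (CommRingCat.of A)) = S.X n ↘ Spec (CommRingCat.of A) := fun n => (sq n).w
  let G : ℕ → Y.Modules := fun n => (Scheme.Modules.pushforward (w n)).obj (L n)
  have hLc : ∀ n, Coh.IsCoh (L n) := fun n => CurveDeg.isCoh_of_isInvertible (hL n)
  have hG : ∀ n, Coh.IsCoh (G n) := fun n => QCoh.isCoh_pushforward_finite (w n) (hLc n)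
  let θ : ∀ n, (Scheme.Modules.pullback (w n)).obj (G (n + 1)) ≅ L n := fun n =>
    haveI := AmpleVan.isIso_counit (w (n + 1)) (hLc (n + 1)).1
    (Scheme.Modules.pullbackCongr (hw n)).app (G (n + 1)) ≪≫
      ((Scheme.Modules.pullbackComp (S.i n) (w (n + 1))).app (G (n + 1))).symm ≪≫
      (Scheme.Modules.pullback (S.i n)).mapIso
        (asIso ((Scheme.Modules.pullbackPushforwardAdjunction (w (n + 1))).counit.app (L (n + 1)))) ≪≫ φ n
  let ρ : ∀ n, G (n + 1) ⟶ G n := fun n =>
    (Scheme.Modules.pullbackPushforwardAdjunction (w n)).unit.app (G (n + 1)) ≫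
      (Scheme.Modules.pushforward (w n)).map (θ n).hom
  have hquot : ∀ n, IsQuot (I ^ (n + 1)) (ρ n) := fun n => by
    obtain ⟨h, hiso⟩ := AmpleVan.unit_desc_iso (sq n) (hG (n + 1)).1
    haveI := hiso
    have h' : Formal.smulFamily (I ^ (n + 1)) (G (n + 1)) ≫ ρ n = 0 := by
      show _ ≫ _ ≫ _ = 0
      rw [← Category.assoc, h, zero_comp]
    refine ⟨h', ?_⟩
    rw [show cokernel.desc _ _ h' = cokernel.desc _ _ h ≫ (Scheme.Modules.pushforward (w n)).map (θ n).hom from by
      rw [← cancel_epi (cokernel.π (Formal.smulFamily (I ^ (n + 1)) (G (n + 1)))), cokernel.π_desc,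
        cokernel.π_desc_assoc]]
    infer_instance
  let F : ℕᵒᵖ ⥤ Y.Modules := Functor.ofOpSequence (X := G) ρ
  have hkill : ∀ n, Formal.KilledBy (I ^ (n + 1)) (G n) := fun n => killedBy_of_isQuot (hquot n)
  have hF : Formal.IsCohFormal I F := ⟨hG, hkill, fun n => by
    rw [show F.map (homOfLE (Nat.le_succ n)).op = ρ n from Functor.ofOpSequence_map_homOfLE_succ _ n]
    exact hquot n⟩
  obtain ⟨M, hM, ⟨e⟩⟩ := ExistEasy.exists_algebraization_proper I Y F hF
  have hpull : ∀ n, Nonempty ((Scheme.Modules.pullback (w n)).obj M ≅ L n) := fun n => by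
    obtain ⟨h, hiso⟩ := AmpleVan.unit_desc_iso (sq n) hM.1
    haveI := hiso
    haveI := AmpleVan.isIso_counit (w n) (hLc n).1
    haveI := AmpleVan.isIso_counit (w n) (QCoh.isQCoh_pullback (w n) hM.1)
    let e₁ : (Scheme.Modules.pushforward (w n)).obj ((Scheme.Modules.pullback (w n)).obj M) ≅
        (Scheme.Modules.pushforward (w n)).obj (L n) :=
      (asIso (cokernel.desc _ _ h)).symm ≪≫ e.app (op n)
    exact ⟨(asIso ((Scheme.Modules.pullbackPushforwardAdjunction (w n)).counit.app _)).symm ≪≫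
      (Scheme.Modules.pullback (w n)).mapIso e₁ ≪≫
      asIso ((Scheme.Modules.pullbackPushforwardAdjunction (w n)).counit.app (L n))⟩
  refine ⟨M, ?_, hpull⟩
  let 𝓘 : Y.IdealSheafData := baseIdeal I
  have hker : ∀ n, (w n).ker = 𝓘 ^ (n + 1) := fun n => by rw [ker_eq_baseIdeal (w n) _ (sq n), baseIdeal_pow]
  have hlev : ∀ n, FlatMod.IsFinLocFreeOfRank 1 ((Scheme.Modules.pullback (FSch.completionToX Y 𝓘 n)).obj M) := fun n => by
    refine InvEnd.isFinLocFreeOfRank_one ?_
    let c := IsClosedImmersion.lift (w n) (FSch.completionToX Y 𝓘 n)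
      (by rw [hker n]; exact (Scheme.IdealSheafData.ker_subschemeι _).ge)
    have hc : c ≫ w n = FSch.completionToX Y 𝓘 n := IsClosedImmersion.lift_fac _ _ _
    obtain ⟨e'⟩ := hpull n
    exact H23.PicMul.isInvertible_of_iso
      (((Scheme.Modules.pullback c).mapIso e').symm ≪≫ (Scheme.Modules.pullbackComp c (w n)).app M ≪≫
        (Scheme.Modules.pullbackCongr hc).app M) (PicClLib.isInvertible_pullback c (hL n))
  have hsupp : ∀ y : Y, (Y ↘ Spec (CommRingCat.of A)) y ∈ PrimeSpectrum.zeroLocus (I : Set A) →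
      y ∈ (𝓘.support : Set Y) := fun y hy => by
    have h1 : (w 0).ker = 𝓘 := by rw [hker 0, zero_add, pow_one]
    rw [← h1, Scheme.Hom.support_ker]
    refine subset_closure (mem_range_of_ker_le (σ := w 0) I h1.le hy)
  choose O hyO hO using fun y : {y : Y // (Y ↘ Spec (CommRingCat.of A)) y ∈ PrimeSpectrum.zeroLocus (I : Set A)} =>
    FComplLib.exists_free_of_levels hM 𝓘 1 hlev (hsupp y.1 y.2)
  have htop : (⨆ y, O y) = ⊤ := Groth.Agent.S5742.eq_top_of_closedFibre I (Y ↘ Spec (CommRingCat.of A)) _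
    fun y hy => Opens.mem_iSup.2 ⟨⟨y, hy⟩, hyO ⟨y, hy⟩⟩
  intro x
  obtain ⟨y, hxy⟩ := Opens.mem_iSup.1 (htop.ge (trivial : x ∈ (⊤ : Y.Opens)))
  obtain ⟨e'⟩ := hO y
  exact ⟨O y, hxy, ⟨e' ≪≫ coproductUniqueIso _⟩⟩

/-- An invertible module which is ample on the closed fibre is ample. -/
theorem isAmple_of_closedFibre (I : Ideal A) [IsAdicComplete I A] {Z : Scheme.{u}} (w : Z ⟶ Y)
    (p : Z ⟶ Spec (CommRingCat.of (A ⧸ I ^ (0 + 1))))
    (sq : IsPullback w p (Y ↘ Spec (CommRingCat.of A)) (CohB1.specQuot I 0))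
    {M : Y.Modules} (hM : PicF.IsInvertible M) {L : Z.Modules}
    (e : (Scheme.Modules.pullback w).obj M ≅ L) (hL : CohB1.IsAmple L) : CohB1.IsAmple M := by
  let g := Y ↘ Spec (CommRingCat.of A)
  haveI : IsProper p := MorphismProperty.of_isPullback sq ‹IsProper (Y ↘ Spec (CommRingCat.of A))›
  have hall : ∀ y : Spec (CommRingCat.of A), y ∈ PrimeSpectrum.zeroLocus (I : Set A) →
      y ∈ AmpleX.ampleLocus g M := fun y hy => by
    obtain ⟨y', rfl⟩ : y ∈ Set.range (CohB1.specQuot I 0) := by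
      rw [show Set.range (CohB1.specQuot I 0) = Set.range (PrimeSpectrum.comap (Ideal.Quotient.mk (I ^ (0 + 1)))) from rfl,
        range_comap_of_surjective _ _ Ideal.Quotient.mk_surjective, Ideal.mk_ker, zero_add, pow_one]
      exact hy
    have h1 := AmpleX.ampleLocus_preimage hM sq
    rw [AmpleX.ampleLocus_congr p e,
      AmpleX.ampleLocus_eq_univ ((AmpleX.isRelAmple_iff_isAmple p L).2 hL)] at h1
    exact h1.le (Set.mem_univ y')
  let W : (Spec (CommRingCat.of A)).Opens := ⟨AmpleX.ampleLocus g M, AmpleX.isOpen_ampleLocus_noetherian g hM⟩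
  have hW : W = ⊤ := Groth.Agent.S5742.eq_top_of_closedFibre I (𝟙 (Spec (CommRingCat.of A))) W fun y hy => hall y hy
  exact (AmpleX.isRelAmple_iff_isAmple g M).1
    (AmpleX.isRelAmple_of_ampleLocus_noetherian g hM fun y => hW.ge (trivial : y ∈ (⊤ : (Spec (CommRingCat.of A)).Opens)))

end Groth.Agent.Algz7
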