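import Groth.Agent.Algz7.ProperSupp
import Groth.Agent.SheafHomX.Proper
import Groth.Agent.QCoh.AnnIdeal
import Groth.Agent.CohPullLib.ModDescend
import Groth.Agent.QCoh.DevissageTheta
import Groth.Prelude.Def_CohB1

/-!
# Algebraization of formal closed subschemes
-/

set_option linter.style.haveILetI false
set_option linter.unusedSectionVars false
set_option backward.isDefEq.respectTransparency false
set_option backward.isDefEq.respectTransparency.types false
set_option maxHeartbeats 1000000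

universe u

open CategoryTheory CategoryTheory.Limits AlgebraicGeometry Opposite TopologicalSpace

noncomputable section

namespace Groth.Agent.Algz7

open Groth.Agent

variable {A : Type u} [CommRing A] {X : Scheme.{u}} [X.Over (Spec (CommRingCat.of A))]

theorem φsec_res {U V : X.Opens} (h : V ≤ U) (a : A) :
    X.presheaf.map (homOfLE h).op (FFun.φsec (A := A) U a) = FFun.φsec (A := A) V a :=
  (ConcreteCategory.congr_hom (X.presheaf.map_comp (homOfLE (le_top : U ≤ ⊤)).op (homOfLE h).op)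
    (show Γ(X, ⊤) from Coh.toGlobal (X ↘ Spec (CommRingCat.of A)) a)).symm

/-- The ideal sheaf generated by an ideal of the base. -/
def baseIdeal (J : Ideal A) : X.IdealSheafData where
  ideal U := J.map (FFun.φsec (A := A) U.1)
  map_ideal_basicOpen U f := by
    rw [Ideal.map_map]
    congr 1
    exact RingHom.ext fun a => φsec_res _ a

theorem app_φsec {T : Scheme.{u}} (g : T ⟶ X) (U : X.Opens) (a : A) :
    g.app U (FFun.φsec (A := A) U a) = T.presheaf.map (homOfLE (le_top (a := g ⁻¹ᵁ U))).op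
      (Coh.toGlobal (g ≫ (X ↘ Spec (CommRingCat.of A))) a) :=
  app_res_top g U _

/-- A morphism through the closed subscheme `Spec (A/J)` kills the ideal sheaf of `J`. -/
theorem baseIdeal_le_ker {T : Scheme.{u}} (g : T ⟶ X) [QuasiCompact g] (J : Ideal A)
    (v : T ⟶ Spec (CommRingCat.of (A ⧸ J)))
    (h : g ≫ (X ↘ Spec (CommRingCat.of A)) = v ≫ Spec.map (CommRingCat.ofHom (Ideal.Quotient.mk J))) :
    baseIdeal J ≤ g.ker := fun U => by
  refine Ideal.map_le_iff_le_comap.2 fun a ha => ?_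
  rw [Ideal.mem_comap, Scheme.Hom.ker_apply, RingHom.mem_ker]
  refine (app_φsec g U.1 a).trans ?_
  rw [h]
  have h0 : Coh.toGlobal (v ≫ Spec.map (CommRingCat.ofHom (Ideal.Quotient.mk J))) a = 0 := by
    have e := ConcreteCategory.congr_hom (Scheme.ΓSpecIso_inv_naturality
      (CommRingCat.ofHom (Ideal.Quotient.mk J))) a
    show v.appTop ((Spec.map (CommRingCat.ofHom (Ideal.Quotient.mk J))).appTop
      ((Scheme.ΓSpecIso (CommRingCat.of A)).inv a)) = 0
    refine (congrArg (fun z => v.appTop z) (e.symm.trans ?_)).trans (map_zero _)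
    show (Scheme.ΓSpecIso (CommRingCat.of (A ⧸ J))).inv (Ideal.Quotient.mk J a) = 0
    rw [Ideal.Quotient.eq_zero_iff_mem.2 ha, map_zero]
  exact (congrArg (fun z => T.presheaf.map (homOfLE (le_top (a := g ⁻¹ᵁ U.1))).op z) h0).trans (map_zero _)

/-- A morphism killing the ideal sheaf of `J` passes through `Spec (A/J)`. -/
theorem exists_lift_specQuot {T : Scheme.{u}} (g : T ⟶ X) [QuasiCompact g]
    [QuasiCompact (g ≫ (X ↘ Spec (CommRingCat.of A)))] (J : Ideal A) (h : baseIdeal J ≤ g.ker) :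
    ∃ v : T ⟶ Spec (CommRingCat.of (A ⧸ J)),
      g ≫ (X ↘ Spec (CommRingCat.of A)) = v ≫ Spec.map (CommRingCat.ofHom (Ideal.Quotient.mk J)) := by
  let q := Spec.map (CommRingCat.ofHom (Ideal.Quotient.mk J))
  haveI : IsClosedImmersion q := IsClosedImmersion.spec_of_surjective _ Ideal.Quotient.mk_surjective
  refine ⟨IsClosedImmersion.lift q (g ≫ (X ↘ Spec (CommRingCat.of A))) ?_, (IsClosedImmersion.lift_fac _ _ _).symm⟩
  refine Scheme.IdealSheafData.le_of_isAffine fun r hr => ?_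
  rw [Scheme.Hom.ker_apply, RingHom.mem_ker] at hr ⊢
  obtain ⟨a, rfl⟩ : ∃ a : A, (Scheme.ΓSpecIso (CommRingCat.of A)).inv a = r :=
    (ConcreteCategory.bijective_of_isIso (Scheme.ΓSpecIso (CommRingCat.of A)).inv).2 r
  have ha : a ∈ J := by
    have e := ConcreteCategory.congr_hom (Scheme.ΓSpecIso_inv_naturality
      (CommRingCat.ofHom (Ideal.Quotient.mk J))) a
    have h1 : (Scheme.ΓSpecIso (CommRingCat.of (A ⧸ J))).inv (Ideal.Quotient.mk J a) = 0 := e.trans hr
    rw [← Ideal.Quotient.eq_zero_iff_mem]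
    exact (map_eq_zero_iff _ (ConcreteCategory.bijective_of_isIso
      (Scheme.ΓSpecIso (CommRingCat.of (A ⧸ J))).inv).1).1 h1
  show (g ≫ (X ↘ Spec (CommRingCat.of A))).appTop ((Scheme.ΓSpecIso (CommRingCat.of A)).inv a) = 0
  refine TopCat.Sheaf.eq_of_locally_eq' T.sheaf (fun U : X.affineOpens => g ⁻¹ᵁ U.1) ⊤
    (fun U => homOfLE le_top) (fun x _ => ?_) _ _ fun U => ?_
  · obtain ⟨U, hU⟩ := ExistEasy.exists_affine_mem (g x)
    exact Opens.mem_iSup.2 ⟨U, hU⟩
  · have h2 := h U (Ideal.mem_map_of_mem (FFun.φsec (A := A) U.1) ha)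
    rw [Scheme.Hom.ker_apply, RingHom.mem_ker] at h2
    exact (((app_φsec g U.1 a).symm).trans h2).trans (map_zero _).symm

theorem isIso_of_mutual {T Z X : Scheme.{u}} (a : T ⟶ X) (b : Z ⟶ X) [Mono a] [Mono b] (s : T ⟶ Z) (t : Z ⟶ T)
    (hs : s ≫ b = a) (ht : t ≫ a = b) : IsIso s :=
  ⟨t, by rw [← cancel_mono a, Category.assoc, ht, hs, Category.id_comp],
    by rw [← cancel_mono b, Category.assoc, hs, ht, Category.id_comp]⟩

/-- A closed set proper over a complete base and avoiding the closed fibre is empty. -/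
theorem eq_empty_of_isProperOver (I : Ideal A) [IsAdicComplete I A] [LocallyOfFiniteType (X ↘ Spec (CommRingCat.of A))]
    {C : Set X} (hC : ClSub.IsProperOver (X ↘ Spec (CommRingCat.of A)) C)
    (h : ∀ x ∈ C, (X ↘ Spec (CommRingCat.of A)) x ∉ PrimeSpectrum.zeroLocus (I : Set A)) : C = ∅ := by
  obtain ⟨hCc, hp⟩ := id hC
  by_contra hne
  obtain ⟨c, hc⟩ := Set.nonempty_iff_ne_empty.2 hne
  let i := (Scheme.IdealSheafData.vanishingIdeal ⟨C, hCc⟩).subschemeι
  haveI : IsProper (i ≫ (X ↘ Spec (CommRingCat.of A))) := hp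
  obtain ⟨z, hz⟩ := (QCoh.range_vanishing hCc).ge hc
  obtain ⟨p, ⟨y, rfl⟩, hp'⟩ := IsClosed.exists_closed_singleton
    (i ≫ (X ↘ Spec (CommRingCat.of A))).isClosedMap.isClosed_range ⟨_, z, rfl⟩
  refine h (i y) ((QCoh.range_vanishing hCc).le ⟨y, rfl⟩) fun a ha => ?_
  exact (show (⊥ : Ideal A).jacobson ≤ ((i ≫ (X ↘ Spec (CommRingCat.of A))) y).asIdeal from
    sInf_le ⟨bot_le, (PrimeSpectrum.isClosed_singleton_iff_isMaximal _).1 hp'⟩) (IsAdicComplete.le_jacobson_bot I ha)

theorem smulMod_unit_app (a : A) (W : X.Opens) (s : Γ(X, W)) :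
    (Formal.smulMod A (Coh.structureModule X) a).app W s = FFun.φsec (A := A) W a * s :=
  (FFun.smulMod_app (Coh.structureModule X) a W (show Γ(Coh.structureModule X, W) from s)).trans rfl

variable [IsNoetherianRing A] [IsSeparated (X ↘ Spec (CommRingCat.of A))]
  [LocallyOfFiniteType (X ↘ Spec (CommRingCat.of A))] [QuasiCompact (X ↘ Spec (CommRingCat.of A))]

/-- The function `1` times `s`. -/
theorem app_one_smul {N : X.Modules} (φ : Coh.structureModule X ⟶ N) {U : X.Opens} (s : Γ(X, U)) :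
    φ.app U s = s • φ.app U (1 : Γ(X, U)) := by
  rw [← Scheme.Modules.Hom.app_smul]
  congr 1
  exact (mul_one s).symm

theorem smul_app_eq_zero {N : X.Modules} (φ : Coh.structureModule X ⟶ N) {U : X.Opens} (s t : Γ(X, U))
    (h : φ.app U s = 0) : s • φ.app U t = 0 := by
  rw [app_one_smul φ t, smul_comm, ← app_one_smul φ s, h, smul_zero]

/-- Formal closed subschemes with proper first term are algebraic. -/
theorem exists_algebraization_ideals (I : Ideal A) [IsAdicComplete I A] {Z : ℕ → Scheme.{u}}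
    (ζ : ∀ n, Z n ⟶ X) [hζ : ∀ n, IsClosedImmersion (ζ n)]
    (hbase : ∀ n, baseIdeal (I ^ (n + 1)) ≤ (ζ n).ker)
    (hle : ∀ n, (ζ (n + 1)).ker ≤ (ζ n).ker)
    (hK : ∀ n, (ζ n).ker ≤ (ζ (n + 1)).ker ⊔ baseIdeal (I ^ (n + 1)))
    (hp : ClSub.IsProperOver (X ↘ Spec (CommRingCat.of A)) (Set.range (ζ 0))) :
    ∃ K : X.IdealSheafData, IsProper (K.subschemeι ≫ (X ↘ Spec (CommRingCat.of A))) ∧
      (∀ n, K ≤ (ζ n).ker) ∧ ∀ n, (ζ n).ker ≤ K ⊔ baseIdeal (I ^ (n + 1)) := by
  haveI : IsLocallyNoetherian X := LocallyOfFiniteType.isLocallyNoetherian (X ↘ Spec (CommRingCat.of A))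
  haveI : CompactSpace X := QuasiCompact.compactSpace_of_compactSpace (X ↘ Spec (CommRingCat.of A))
  haveI : ∀ n, IsLocallyNoetherian (Z n) := fun n => LocallyOfFiniteType.isLocallyNoetherian (ζ n)
  haveI : AlgebraicGeometry.IsNoetherian X := { __ := ‹IsLocallyNoetherian X›, __ := ‹CompactSpace X› }
  let G : ℕ → X.Modules := fun n => (Scheme.Modules.pushforward (ζ n)).obj (Coh.structureModule (Z n))
  have hG : ∀ n, Coh.IsCoh (G n) := fun n => QCoh.isCoh_pushforward_finite (ζ n) QCoh.isCoh_structureModule'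
  let ε : ∀ n, Coh.structureModule X ⟶ G n := fun n => ClSub.unitToPush (ζ n)
  have hO : Coh.IsCoh (Coh.structureModule X) := QCoh.isCoh_structureModule'
  have hεker : ∀ (n : ℕ) (U : X.affineOpens) (s : Γ(X, U.1)), (ε n).app U.1 s = 0 ↔ s ∈ (ζ n).ker.ideal U :=
    fun n U s => by rw [Scheme.Hom.ker_apply, RingHom.mem_ker]; rfl
  have hεepi : ∀ n, Epi (ε n) := fun n => CohPullLib.epi_of_surjective_cover hO.1 (hG n).1 _
    (fun U : X.affineOpens => U.1) (fun U => U.2) ExistEasy.exists_affine_mem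
    fun U => (ζ n).app_surjective U.1 U.2
  -- multiplication by the base
  have hbaseε : ∀ (n : ℕ) (a : A), a ∈ I ^ (n + 1) →
      Formal.smulMod A (Coh.structureModule X) a ≫ ε n = 0 := fun n a ha =>
    QCoh.hom_eq_zero_of_affine _ fun W hW s => by
      refine (congrArg ((ε n).app W) (smulMod_unit_app a W s)).trans ((hεker n ⟨W, hW⟩ _).2 ?_)
      exact Ideal.mul_mem_right (show Γ(X, W) from s) _ (hbase n ⟨W, hW⟩ (Ideal.mem_map_of_mem _ ha))
  have hkill : ∀ n, Formal.KilledBy (I ^ (n + 1)) (G n) := fun n a ha => by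
    haveI := hεepi n
    rw [← cancel_epi (ε n), ← smulMod_naturality, hbaseε n a ha, comp_zero]
  have hρ : ∀ n, ∃ ρ : G (n + 1) ⟶ G n, ε (n + 1) ≫ ρ = ε n := fun n => by
    haveI := hεepi (n + 1)
    have h0 : kernel.ι (ε (n + 1)) ≫ ε n = 0 := QCoh.hom_eq_zero_of_affine _ fun W hW x =>
      (hεker n ⟨W, hW⟩ _).2 (hle n ⟨W, hW⟩ ((hεker (n + 1) ⟨W, hW⟩ _).1
        congr($(kernel.condition (ε (n + 1))).app W x)))
    exact ⟨Abelian.epiDesc _ _ h0, Abelian.comp_epiDesc _ _ _⟩
  choose ρ hρ using hρ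
  let F : ℕᵒᵖ ⥤ X.Modules := Functor.ofOpSequence (X := G) ρ
  have hFmap : ∀ n, F.map (homOfLE (Nat.le_succ n)).op = ρ n := fun n => Functor.ofOpSequence_map_homOfLE_succ _ n
  have hquot : ∀ n, IsQuot (I ^ (n + 1)) (ρ n) := fun n => by
    haveI := hεepi n
    haveI := hεepi (n + 1)
    haveI : Epi (ρ n) := by
      haveI : Epi (ε (n + 1) ≫ ρ n) := by rw [hρ]; infer_instance
      exact epi_of_epi (ε (n + 1)) _
    refine IsQuot.mk' _ (hkill n) fun {P} φ hφ => ?_
    have h0 : kernel.ι (ε n) ≫ ε (n + 1) ≫ φ = 0 := QCoh.hom_eq_zero_of_affine _ fun W hW x => by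
      have hx : (kernel.ι (ε n)).app W x ∈ (ζ n).ker.ideal ⟨W, hW⟩ :=
        (hεker n ⟨W, hW⟩ _).1 congr($(kernel.condition (ε n)).app W x)
      obtain ⟨s₁, hs₁, s₂, hs₂, he⟩ := Submodule.mem_sup.1 (hK n ⟨W, hW⟩ hx)
      show φ.app W ((ε (n + 1)).app W ((kernel.ι (ε n)).app W x)) = 0
      rw [← he]
      have hφs : ∀ s : Γ(X, W), s ∈ (I ^ (n + 1)).map (FFun.φsec (A := A) W) →
          φ.app W ((ε (n + 1)).app W s) = 0 := by
        intro s hs
        refine Submodule.span_induction (p := fun s _ => φ.app W ((ε (n + 1)).app W s) = 0) ?_ ?_ ?_ ?_ hs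
        · rintro _ ⟨a, ha, rfl⟩
          have h3 : (Formal.smulMod A (Coh.structureModule X) a).app W (1 : Γ(X, W)) = FFun.φsec (A := A) W a :=
            (smulMod_unit_app a W _).trans (mul_one (FFun.φsec (A := A) W a))
          rw [← h3]
          refine (congrArg (φ.app W) congr($(smulMod_naturality (ε (n + 1)) a).app W (1 : Γ(X, W)))).trans ?_
          exact congr($(smulMod_comp_eq_zero hφ ha).app W ((ε (n + 1)).app W (1 : Γ(X, W))))
        · rw [map_zero, map_zero]
        · intro s t _ _ h h'; rw [map_add, map_add, h, h', add_zero]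
        · intro c s _ h
          rw [smul_eq_mul]
          refine (congrArg (φ.app W) (Scheme.Modules.Hom.app_smul (M := Coh.structureModule X) (ε (n + 1)) c s)).trans ?_
          rw [Scheme.Modules.Hom.app_smul, h, smul_zero]
      rw [map_add, map_add, (hεker (n + 1) ⟨W, hW⟩ s₁).2 hs₁, map_zero, zero_add, hφs s₂ hs₂]
    refine ⟨Abelian.epiDesc _ _ h0, ?_⟩
    rw [← cancel_epi (ε (n + 1)), ← Category.assoc, hρ, Abelian.comp_epiDesc]
  have hF : Formal.IsCohFormal I F := ⟨hG, hkill, fun n => by rw [hFmap]; exact hquot n⟩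
  have hsupp : CohB1.support (F.obj (op 0)) ⊆ Set.range (ζ 0) :=
    support_push_subset (ζ 0) (ζ 0).isClosedEmbedding.isClosed_range fun x _ => ⟨x, rfl⟩
  obtain ⟨hpc, hpp⟩ := id hp
  obtain ⟨M, hM, hMp, ⟨e⟩⟩ := exists_algebraization_properSupport I hF
    (by
      haveI : IsProper ((Scheme.IdealSheafData.vanishingIdeal ⟨_, hpc⟩).subschemeι ≫ (X ↘ Spec (CommRingCat.of A))) := hpp
      exact QCoh.isProperOver_of_subset _ (QCoh.isClosed_support_of_ft (hF.1 0).2)
        (hsupp.trans (QCoh.range_vanishing hpc).ge))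
  -- the comparison with the structure sheaf
  let ψ₀ : ∀ n, Formal.modPow I (n + 1) (Coh.structureModule X) ⟶ G n := fun n =>
    cokernel.desc _ (ε n) (smulFamily_comp_eq_zero (hkill n) (ε n))
  have hψ₀ : ∀ n, Formal.modPowπ I (n + 1) (Coh.structureModule X) ≫ ψ₀ n = ε n := fun n => cokernel.π_desc _ _ _
  let ψ : Formal.completion I (Coh.structureModule X) ⟶ F := NatTrans.ofOpSequence ψ₀ fun n => by
    haveI := (isQuot_modPowπ (X := X) I (n + 1 + 1) (Coh.structureModule X)).epi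
    rw [hFmap, completion_map_succ, ← cancel_epi (Formal.modPowπ I (n + 1 + 1) (Coh.structureModule X)),
      ← Category.assoc, ← Category.assoc, Formal.modPowπ_trans, hψ₀, hψ₀, hρ]
  obtain ⟨φ, hφ, -⟩ := SheafHomX.existsUnique_of_proper I hO hM hMp Set.inter_subset_right (ψ ≫ e.inv)
  have hφε : ∀ n, φ ≫ Formal.modPowπ I (n + 1) M ≫ e.hom.app (op n) = ε n := fun n => by
    rw [← Category.assoc, ← hφ n]
    simp only [Category.assoc, NatTrans.comp_app]
    rw [← NatTrans.comp_app, e.inv_hom_id, NatTrans.id_app]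
    refine Eq.trans ?_ (hψ₀ n)
    exact congrArg (Formal.modPowπ I (n + 1) (Coh.structureModule X) ≫ ·) (Category.comp_id _)
  haveI : Epi φ := by
    let Q := cokernel φ
    have hQ : Coh.IsCoh Q := isCoh_of_epi (cokernel.π φ) hM (QCoh.isQCoh_cokernel hO.1 hM.1 φ)
    have hQs : CohB1.support Q ⊆ CohB1.support M := QCoh.support_of_epi hM.1 hQ.1 (cokernel.π φ)
    have hQ0 : IsZero (Formal.modPow I 1 Q) := by
      obtain ⟨χ, hχ⟩ := (isQuot_modPowπ I 1 M).desc (cokernel.π φ ≫ Formal.modPowπ I 1 Q)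
        (smulFamily_comp_eq_zero (killedBy_of_isQuot (isQuot_modPowπ I 1 Q)) _)
      haveI := (isQuot_modPowπ I 1 Q).epi
      haveI := hεepi 0
      rw [IsZero.iff_id_eq_zero, ← cancel_epi (Formal.modPowπ I 1 Q), ← cancel_epi (cokernel.π φ), comp_zero,
        Category.comp_id, comp_zero, ← hχ]
      have h1 : (e.hom.app (op 0) : Formal.modPow I 1 M ⟶ G 0) ≫ e.inv.app (op 0) ≫ χ = χ := by
        rw [← Category.assoc]
        exact (congrArg (· ≫ χ) (e.hom_inv_id_app (op 0))).trans (Category.id_comp χ)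
      have h2 : e.inv.app (op 0) ≫ χ = 0 := by
        rw [← cancel_epi (ε 0), comp_zero, ← hφε 0, Category.assoc, Category.assoc, h1, hχ,
          cokernel.condition_assoc, zero_comp]
      rw [← h1, h2, comp_zero, comp_zero]
    obtain ⟨hMc, hMp'⟩ := id hMp
    have hQe : CohB1.support Q = ∅ := eq_empty_of_isProperOver I
      (by
        haveI : IsProper ((Scheme.IdealSheafData.vanishingIdeal ⟨_, hMc⟩).subschemeι ≫ (X ↘ Spec (CommRingCat.of A))) := hMp'
        exact QCoh.isProperOver_of_subset _ (QCoh.isClosed_support_of_ft hQ.2) (hQs.trans (QCoh.range_vanishing hMc).ge))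
      fun x hx hxI => notMem_support_of_modPow hQ hxI
        (by rw [QCoh.support_eq_empty_of_isZero hQ0 (isQCoh_modPow I 1 hQ.1)]; exact Set.notMem_empty x) hx
    refine Abelian.epi_of_cokernel_π_eq_zero _ (QCoh.hom_eq_zero_of_affine _ fun W hW x => ?_)
    haveI : Subsingleton Γ(Q, W) := app_zero_of_support fun y _ => hQe ▸ Set.notMem_empty y
    exact Subsingleton.elim (α := Γ(Q, W)) _ 0
  have hsurj : ∀ U : X.affineOpens, Function.Surjective (φ.app U.1) := fun U =>
    QCoh.app_surjective_of_epi hO.1 hM.1 φ U.2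
  have hmem : ∀ (U : X.affineOpens) (s : Γ(X, U.1)),
      s ∈ (QCoh.annIdeal hM.1 hM.2).ideal U ↔ φ.app U.1 s = 0 := fun U s => by
    show s ∈ Module.annihilator Γ(X, U.1) Γ(M, U.1) ↔ _
    rw [Module.mem_annihilator]
    refine ⟨fun h => (app_one_smul φ s).trans (h _), fun h m => ?_⟩
    obtain ⟨t, rfl⟩ := hsurj U m
    exact smul_app_eq_zero φ s t h
  refine ⟨QCoh.annIdeal hM.1 hM.2, ?_, fun n U s hs => (hεker n U s).1 ?_, fun n U s hs => ?_⟩
  · refine QCoh.isProper_comp_of_isProperOver _ hMp ?_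
    rw [Scheme.IdealSheafData.range_subschemeι]
    simp [QCoh.annIdeal]
  · rw [← hφε n]
    show (e.hom.app (op n)).app U.1 ((Formal.modPowπ I (n + 1) M).app U.1 (φ.app U.1 s)) = 0
    rw [(hmem U s).1 hs, map_zero, map_zero]
  · have h0 : (Formal.modPowπ I (n + 1) M).app U.1 (φ.app U.1 s) = 0 := by
      refine (ZClosLib.app_bijective_of_isIso (e.hom.app (op n)) U.1).1 ?_
      refine Eq.trans ?_ (map_zero _).symm
      have := (hεker n U s).2 hs
      rw [← hφε n] at this
      exact this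
    have h1 := mem_of_modPowπ_eq_zero hM.1 U.2 _ h0
    have hlift : ∀ m ∈ (I ^ (n + 1)).map (FFun.φsec (A := A) U.1) • (⊤ : Submodule Γ(X, U.1) Γ(M, U.1)),
        ∃ b ∈ (baseIdeal (X := X) (I ^ (n + 1))).ideal U, φ.app U.1 b = m := fun m hm => by
      refine Submodule.smul_induction_on hm (fun r hr v _ => ?_) fun v v' ⟨b, hb, hv⟩ ⟨b', hb', hv'⟩ =>
        ⟨b + b', add_mem hb hb', by rw [map_add, hv, hv']⟩
      obtain ⟨t, rfl⟩ := hsurj U v
      exact ⟨r * (show Γ(X, U.1) from t), Ideal.mul_mem_right _ _ hr, Scheme.Modules.Hom.app_smul (M := Coh.structureModule X) φ r t⟩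
    obtain ⟨b, hb, hbs⟩ := hlift _ h1
    rw [Scheme.IdealSheafData.ideal_sup]
    exact Submodule.mem_sup.2 ⟨s - b, (hmem U _).2 (by rw [map_sub, hbs, sub_self]), b, hb, sub_add_cancel s b⟩

/-- Formal closed subschemes of a separated scheme of finite type with proper first term are algebraic. -/
theorem exists_algebraization_closed (f : X ⟶ Spec (CommRingCat.of A)) (hf : f = X ↘ Spec (CommRingCat.of A))
    (I : Ideal A) [IsAdicComplete I A] (Z : ℕ → Scheme.{u}) (z : (n : ℕ) → (Z n ⟶ CohB1.thick f I n))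
    (t : (n : ℕ) → (Z n ⟶ Z (n + 1))) (hz : ∀ n, IsClosedImmersion (z n))
    (ht : ∀ n, IsPullback (t n) (z n) (z (n + 1)) (CohB1.thickTrans f I n))
    (hp : IsProper (z 0 ≫ CohB1.thickToBase f I 0)) :
    ∃ (W : Scheme.{u}) (i : W ⟶ X) (w : (n : ℕ) → (Z n ⟶ W)), IsClosedImmersion i ∧
      IsProper (i ≫ f) ∧ (∀ n, w n = t n ≫ w (n + 1)) ∧ ∀ n, IsPullback (w n) (z n) i (CohB1.thickι f I n) := by
  haveI : ∀ n, IsClosedImmersion (CohB1.specQuot I n) := fun n =>
    IsClosedImmersion.spec_of_surjective _ Ideal.Quotient.mk_surjective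
  haveI : ∀ n, IsClosedImmersion (CohB1.thickι f I n) := fun n =>
    MorphismProperty.pullback_fst (P := @IsClosedImmersion) f (CohB1.specQuot I n) inferInstance
  haveI := hz
  let ζ : ∀ n, Z n ⟶ X := fun n => z n ≫ CohB1.thickι f I n
  haveI : ∀ n, IsClosedImmersion (ζ n) := fun n => IsClosedImmersion.comp _ _
  have hcond : ∀ n, ζ n ≫ f = (z n ≫ CohB1.thickToBase f I n) ≫ CohB1.specQuot I n := fun n => by
    simp only [ζ, Category.assoc, pullback.condition]
  have htr : ∀ n, CohB1.thickTrans f I n ≫ CohB1.thickι f I (n + 1) = CohB1.thickι f I n := fun n => by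
    simp [CohB1.thickTrans]
  have htζ : ∀ n, t n ≫ ζ (n + 1) = ζ n := fun n => by
    show t n ≫ z (n + 1) ≫ CohB1.thickι f I (n + 1) = z n ≫ CohB1.thickι f I n
    rw [← Category.assoc, (ht n).w, Category.assoc, htr]
  have hbase : ∀ n, baseIdeal (X := X) (I ^ (n + 1)) ≤ (ζ n).ker := fun n => by
    refine baseIdeal_le_ker (ζ n) _ (z n ≫ CohB1.thickToBase f I n) ?_
    rw [← hf]
    exact hcond n
  have hle : ∀ n, (ζ (n + 1)).ker ≤ (ζ n).ker := fun n => by
    conv_rhs => rw [← htζ n]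
    exact Scheme.Hom.le_ker_comp _ _
  haveI : IsLocallyNoetherian X := LocallyOfFiniteType.isLocallyNoetherian (X ↘ Spec (CommRingCat.of A))
  haveI : QuasiCompact f := hf ▸ inferInstance
  have hliftn : ∀ (n : ℕ) {T : Scheme.{u}} (g : T ⟶ X) [QuasiCompact g], baseIdeal (I ^ (n + 1)) ≤ g.ker →
      ∃ b : T ⟶ CohB1.thick f I n, b ≫ CohB1.thickι f I n = g := fun n T g _ hg => by
    obtain ⟨v, hv⟩ := exists_lift_specQuot g (I ^ (n + 1)) hg
    exact ⟨pullback.lift g v (by rw [hf]; exact hv), pullback.lift_fst _ _ _⟩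
  have hK : ∀ n, (ζ n).ker ≤ (ζ (n + 1)).ker ⊔ baseIdeal (X := X) (I ^ (n + 1)) := fun n => by
    let L := (ζ (n + 1)).ker ⊔ baseIdeal (X := X) (I ^ (n + 1))
    have h1 : (ζ (n + 1)).ker ≤ L.subschemeι.ker := by
      rw [Scheme.IdealSheafData.ker_subschemeι]; exact le_sup_left
    obtain ⟨b, hb⟩ := hliftn n L.subschemeι (by rw [Scheme.IdealSheafData.ker_subschemeι]; exact le_sup_right)
    let c := IsClosedImmersion.lift (ζ (n + 1)) L.subschemeι h1
    have hc : c ≫ z (n + 1) = b ≫ CohB1.thickTrans f I n := by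
      rw [← cancel_mono (CohB1.thickι f I (n + 1)), Category.assoc, Category.assoc, htr, hb]
      exact IsClosedImmersion.lift_fac _ _ _
    let d := (ht n).lift c b hc
    have hd : d ≫ ζ n = L.subschemeι := by
      show d ≫ z n ≫ CohB1.thickι f I n = _
      rw [← Category.assoc, (ht n).lift_snd, hb]
    calc (ζ n).ker ≤ (d ≫ ζ n).ker := Scheme.Hom.le_ker_comp _ _
      _ = L := by rw [hd, Scheme.IdealSheafData.ker_subschemeι]
  have hp0 : ClSub.IsProperOver (X ↘ Spec (CommRingCat.of A)) (Set.range (ζ 0)) := by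
    haveI : IsProper (ζ 0 ≫ (X ↘ Spec (CommRingCat.of A))) := by
      rw [← hf, hcond]
      haveI := hp
      infer_instance
    exact QCoh.isProperOver_of_subset (ζ 0) (ζ 0).isClosedEmbedding.isClosed_range le_rfl
  obtain ⟨K, hKp, hKle, hKsup⟩ := exists_algebraization_ideals I ζ hbase hle hK hp0
  let i := K.subschemeι
  have hKi : ∀ n, i.ker ≤ (ζ n).ker := fun n => by rw [Scheme.IdealSheafData.ker_subschemeι]; exact hKle n
  let w : ∀ n, Z n ⟶ K.subscheme := fun n => IsClosedImmersion.lift i (ζ n) (hKi n)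
  have hw : ∀ n, w n ≫ i = ζ n := fun n => IsClosedImmersion.lift_fac _ _ _
  refine ⟨K.subscheme, i, w, inferInstance, hf ▸ hKp, fun n => ?_, fun n => ?_⟩
  · rw [← cancel_mono i, Category.assoc, hw, hw, htζ]
  · have hwz : w n ≫ i = z n ≫ CohB1.thickι f I n := hw n
    let g : pullback i (CohB1.thickι f I n) ⟶ X := pullback.fst i (CohB1.thickι f I n) ≫ i
    haveI : IsClosedImmersion g := IsClosedImmersion.comp _ _
    have hg : (ζ n).ker ≤ g.ker := by
      refine (hKsup n).trans (sup_le ?_ ?_)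
      · exact (Scheme.IdealSheafData.ker_subschemeι K).ge.trans (Scheme.Hom.le_ker_comp _ _)
      · refine baseIdeal_le_ker g _ (pullback.snd i (CohB1.thickι f I n) ≫ CohB1.thickToBase f I n) ?_
        rw [← hf]
        show (pullback.fst i (CohB1.thickι f I n) ≫ i) ≫ f = _
        rw [pullback.condition, Category.assoc, pullback.condition, Category.assoc]
        rfl
    haveI : IsIso (pullback.lift (w n) (z n) hwz) := by
      refine isIso_of_mutual (ζ n) g _ (IsClosedImmersion.lift (ζ n) g hg) ?_ (IsClosedImmersion.lift_fac _ _ _)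
      show pullback.lift (w n) (z n) hwz ≫ pullback.fst i (CohB1.thickι f I n) ≫ i = ζ n
      rw [pullback.lift_fst_assoc, hw]
    exact IsPullback.of_iso_pullback ⟨hwz⟩ (asIso (pullback.lift (w n) (z n) hwz)) (pullback.lift_fst _ _ _)
      (pullback.lift_snd _ _ _)

end Groth.Agent.Algz7
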