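import Groth.Agent.Algz7.ClosedAlg
import Groth.Agent.ExistEasy.PP.HatLemmas
import Groth.Agent.S5742
import Mathlib.AlgebraicGeometry.ZariskisMainTheorem

/-!
# Morphisms of proper schemes inducing isomorphisms of the thickenings
-/

set_option linter.style.haveILetI false
set_option linter.unusedSectionVars false
set_option backward.isDefEq.respectTransparency false
set_option backward.isDefEq.respectTransparency.types false
set_option maxHeartbeats 1000000

universe u

open CategoryTheory CategoryTheory.Limits AlgebraicGeometry Opposite TopologicalSpace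

noncomputable section

namespace Groth.Agent.Algz7

open Groth.Agent

variable {A : Type u} [CommRing A] {X W : Scheme.{u}} [X.Over (Spec (CommRingCat.of A))]
  [W.Over (Spec (CommRingCat.of A))]

theorem app_eq_of_comp {Z W X : Scheme.{u}} {σ : Z ⟶ W} {p : W ⟶ X} {ι : Z ⟶ X} (h : σ ≫ p = ι) {U : X.Opens}
    {V : Z.Opens} (hV : V ≤ ι ⁻¹ᵁ U) (hV' : V ≤ σ ⁻¹ᵁ (p ⁻¹ᵁ U)) (r : Γ(X, U)) :
    Z.presheaf.map (homOfLE hV).op (ι.app U r) = Z.presheaf.map (homOfLE hV').op (σ.app (p ⁻¹ᵁ U) (p.app U r)) := by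
  subst h
  rfl

theorem res_self {Z : Scheme.{u}} {V : Z.Opens} (h : V ≤ V) (x : Γ(Z, V)) : Z.presheaf.map (homOfLE h).op x = x :=
  congr($(Z.presheaf.map_id (op V)) x)

variable [IsNoetherianRing A] [IsProper (X ↘ Spec (CommRingCat.of A))] [IsProper (W ↘ Spec (CommRingCat.of A))]

/-- Every point over the zero locus lies in a closed subscheme cut out inside the ideal of the base. -/
theorem mem_range_of_ker_le {Z : Scheme.{u}} (σ : Z ⟶ W) [IsClosedImmersion σ] (J : Ideal A)
    (h : σ.ker ≤ baseIdeal J) {w : W}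
    (hw : (W ↘ Spec (CommRingCat.of A)) w ∈ PrimeSpectrum.zeroLocus (J : Set A)) : w ∈ Set.range σ := by
  rw [← σ.isClosedEmbedding.isClosed_range.closure_eq, ← σ.support_ker]
  refine (Scheme.IdealSheafData.support_antitone h) ?_
  show w ∈ (baseIdeal (X := W) J).support
  obtain ⟨U, hU⟩ := ExistEasy.exists_affine_mem w
  rw [Scheme.IdealSheafData.mem_support_iff_of_mem hU]
  rw [Scheme.mem_zeroLocus_iff]
  intro b hb hwb
  let P := U.2.primeIdealOf ⟨w, hU⟩
  have hPmem : ∀ a : Γ(W, U.1), a ∈ P.asIdeal ↔ w ∉ W.basicOpen a := fun a => by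
    rw [show (w ∈ W.basicOpen a) ↔ P ∈ U.2.fromSpec ⁻¹ᵁ W.basicOpen a from by
      show _ ↔ U.2.fromSpec P ∈ W.basicOpen a
      rw [U.2.fromSpec_primeIdealOf], U.2.fromSpec_preimage_basicOpen]
    exact not_not.symm
  have hle : J.map (FFun.φsec (A := A) U.1) ≤ P.asIdeal := Ideal.map_le_iff_le_comap.2 fun a ha => by
    refine (hPmem _).2 fun h1 => ?_
    have h2 : w ∈ W.basicOpen ((W ↘ Spec (CommRingCat.of A)).appTop ((Scheme.ΓSpecIso (CommRingCat.of A)).inv a)) := by
      refine W.basicOpen_res (show Γ(W, ⊤) from Coh.toGlobal (W ↘ Spec (CommRingCat.of A)) a)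
        (homOfLE (le_top : U.1 ≤ ⊤)).op |>.le.trans inf_le_right h1
    rw [← Scheme.preimage_basicOpen_top, basicOpen_eq_of_affine] at h2
    exact h2 (hw ha)
  exact (hPmem b).1 (hle hb) hwb

/-- A morphism of proper schemes over a complete base inducing isomorphisms of all thickenings is an
isomorphism. -/
theorem isIso_of_formal (I : Ideal A) [IsAdicComplete I A] (p : W ⟶ X)
    (hp : p ≫ (X ↘ Spec (CommRingCat.of A)) = W ↘ Spec (CommRingCat.of A)) {Z : ℕ → Scheme.{u}}
    (ι : ∀ n, Z n ⟶ X) [∀ n, IsClosedImmersion (ι n)] (hι : ∀ n, (ι n).ker ≤ baseIdeal (I ^ (n + 1)))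
    (σ : ∀ n, Z n ⟶ W) [IsClosedImmersion (σ 0)] (hσ : ∀ n, σ n ≫ p = ι n)
    (hσ0 : (σ 0).ker ≤ baseIdeal (I ^ (0 + 1))) : IsIso p := by
  haveI : IsProper p := by
    haveI : IsProper (p ≫ (X ↘ Spec (CommRingCat.of A))) := hp.symm ▸ inferInstance
    exact IsProper.of_comp p (X ↘ Spec (CommRingCat.of A))
  haveI : IsLocallyNoetherian X := LocallyOfFiniteType.isLocallyNoetherian (X ↘ Spec (CommRingCat.of A))
  haveI : CompactSpace X := QuasiCompact.compactSpace_of_compactSpace (X ↘ Spec (CommRingCat.of A))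
  haveI : AlgebraicGeometry.IsNoetherian X := { __ := ‹IsLocallyNoetherian X›, __ := ‹CompactSpace X› }
  haveI : IsLocallyNoetherian W := LocallyOfFiniteType.isLocallyNoetherian p
  -- finiteness
  have hfib : ∀ x : X, (X ↘ Spec (CommRingCat.of A)) x ∈ PrimeSpectrum.zeroLocus (I : Set A) →
      (p ⁻¹' {x}).Subsingleton := by
    intro x hx w hw w' hw'
    have hmem : ∀ v : W, p v = x → v ∈ Set.range (σ 0) := fun v hv => by
      refine mem_range_of_ker_le (σ 0) _ hσ0 ?_
      rw [← hp, Scheme.Hom.comp_apply, hv]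
      simpa using hx
    obtain ⟨z, rfl⟩ := hmem w hw
    obtain ⟨z', rfl⟩ := hmem w' hw'
    refine congrArg _ ((ι 0).isClosedEmbedding.injective ?_)
    rw [← hσ 0, Scheme.Hom.comp_apply, Scheme.Hom.comp_apply]
    exact hw.trans hw'.symm
  choose V hxV hV using fun x : {x : X // (X ↘ Spec (CommRingCat.of A)) x ∈ PrimeSpectrum.zeroLocus (I : Set A)} =>
    exists_isFinite_morphismRestrict_of_finite_preimage_singleton p x.1 (hfib x.1 x.2).finite
  haveI : IsFinite p := IsZariskiLocalAtTarget.of_iSup_eq_top V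
    (Groth.Agent.S5742.eq_top_of_closedFibre I (X ↘ Spec (CommRingCat.of A)) _
      fun x hx => Opens.mem_iSup.2 ⟨⟨x, hx⟩, hxV ⟨x, hx⟩⟩) hV
  let G : X.Modules := (Scheme.Modules.pushforward p).obj (Coh.structureModule W)
  have hG : Coh.IsCoh G := QCoh.isCoh_pushforward_finite p QCoh.isCoh_structureModule'
  have hO : Coh.IsCoh (Coh.structureModule X) := QCoh.isCoh_structureModule'
  let ε : Coh.structureModule X ⟶ G := ClSub.unitToPush p
  have hps : ∀ C : Set X, IsClosed C → ClSub.IsProperOver (X ↘ Spec (CommRingCat.of A)) C := fun C hC => by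
    haveI : IsProper (𝟙 X ≫ (X ↘ Spec (CommRingCat.of A))) := by rw [Category.id_comp]; infer_instance
    exact QCoh.isProperOver_of_subset (𝟙 X) hC fun x _ => ⟨x, rfl⟩
  haveI hεepi : Epi ε := by
    let Q := cokernel ε
    have hQ : Coh.IsCoh Q := isCoh_of_epi (cokernel.π ε) hG (QCoh.isQCoh_cokernel hO.1 hG.1 ε)
    have h0 : cokernel.π ε ≫ Formal.modPowπ I 1 Q = 0 := QCoh.hom_eq_zero_of_affine _ fun U hU b => by
      have e : σ 0 ⁻¹ᵁ (p ⁻¹ᵁ U) = ι 0 ⁻¹ᵁ U := by rw [← hσ 0, Scheme.Hom.comp_preimage]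
      obtain ⟨r, hr⟩ := (ι 0).app_surjective U hU
        ((Z 0).presheaf.map (homOfLE e.ge).op ((σ 0).app (p ⁻¹ᵁ U) (show Γ(W, p ⁻¹ᵁ U) from b)))
      have h1 : (show Γ(W, p ⁻¹ᵁ U) from b) - p.app U r ∈ (σ 0).ker.ideal ⟨p ⁻¹ᵁ U, hU.preimage p⟩ := by
        rw [Scheme.Hom.ker_apply, RingHom.mem_ker, map_sub, sub_eq_zero]
        haveI : IsIso (homOfLE e.ge) := ⟨homOfLE e.le, Subsingleton.elim _ _, Subsingleton.elim _ _⟩
        refine (ConcreteCategory.bijective_of_isIso ((Z 0).presheaf.map (homOfLE e.ge).op)).1 ?_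
        rw [← hr]
        refine Eq.trans ?_ (app_eq_of_comp (hσ 0) le_rfl e.ge r)
        exact (res_self _ _).symm
      have h2 := hσ0 ⟨p ⁻¹ᵁ U, hU.preimage p⟩ h1
      let π := cokernel.π ε ≫ Formal.modPowπ I 1 Q
      have hkey : ∀ c ∈ (I ^ (0 + 1)).map (FFun.φsec (A := A) (p ⁻¹ᵁ U)),
          π.app U (show Γ(G, U) from c) = 0 := by
        intro c hc
        refine Submodule.span_induction (p := fun c _ => ∀ d : Γ(W, p ⁻¹ᵁ U), π.app U (show Γ(G, U) from c * d) = 0)
          ?_ ?_ ?_ ?_ hc (1 : Γ(W, p ⁻¹ᵁ U)) |> fun h => by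
            refine Eq.trans ?_ h
            exact congrArg (π.app U) (mul_one c).symm
        · rintro _ ⟨a, ha, rfl⟩ d
          have h3 : (show Γ(G, U) from FFun.φsec (A := A) (p ⁻¹ᵁ U) a * d) =
              (Formal.smulMod A G a).app U (show Γ(G, U) from d) := by
            rw [FFun.smulMod_app]
            show _ = p.app U (FFun.φsec (A := A) U a) * d
            rw [Scheme.Hom.app_eq_appLE, ExistEasy.appLE_φsec p hp]
          rw [h3]
          refine (congr($(smulMod_naturality π a).app U (show Γ(G, U) from d))).trans ?_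
          exact congr(($(killedBy_of_isQuot (isQuot_modPowπ I 1 Q) a (by simpa using ha))).app U
            (π.app U (show Γ(G, U) from d)))
        · intro d
          exact (congrArg (π.app U) (zero_mul d)).trans (map_zero (π.app U).hom)
        · intro c c' _ _ hc hc' d
          refine (congrArg (π.app U) (add_mul c c' d)).trans ?_
          refine (map_add (π.app U).hom (show Γ(G, U) from c * d) (show Γ(G, U) from c' * d)).trans ?_
          exact (congrArg₂ (· + ·) (hc d) (hc' d)).trans (add_zero 0)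
        · intro a c _ hc d
          refine (congrArg (π.app U) (show (show Γ(G, U) from (a • c) * d) = (show Γ(G, U) from c * (a * d)) from ?_)).trans
            (hc (a * d))
          show (a * c) * d = c * (a * d)
          ring
      have hb : b = (show Γ(G, U) from (show Γ(W, p ⁻¹ᵁ U) from b) - p.app U r) + ε.app U r :=
        (sub_add_cancel (show Γ(W, p ⁻¹ᵁ U) from b) (p.app U r)).symm
      show π.app U b = 0
      rw [hb, map_add, hkey _ h2, zero_add]
      show (Formal.modPowπ I 1 Q).app U ((cokernel.π ε).app U (ε.app U r)) = 0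
      rw [show (cokernel.π ε).app U (ε.app U r) = 0 from congr($(cokernel.condition ε).app U r), map_zero]
    have hQ0 : IsZero (Formal.modPow I 1 Q) := by
      haveI := (isQuot_modPowπ I 1 Q).epi
      rw [IsZero.iff_id_eq_zero, ← cancel_epi (Formal.modPowπ I 1 Q), ← cancel_epi (cokernel.π ε), comp_zero,
        comp_zero, Category.comp_id, h0]
    have hQe : CohB1.support Q = ∅ := eq_empty_of_isProperOver I (hps _ (QCoh.isClosed_support_of_ft hQ.2))
      fun x hx hxI => notMem_support_of_modPow hQ hxI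
        (by rw [QCoh.support_eq_empty_of_isZero hQ0 (isQCoh_modPow I 1 hQ.1)]; exact Set.notMem_empty x) hx
    refine Abelian.epi_of_cokernel_π_eq_zero _ (QCoh.hom_eq_zero_of_affine _ fun U hU x => ?_)
    haveI : Subsingleton Γ(Q, U) := app_zero_of_support fun y _ => hQe ▸ Set.notMem_empty y
    exact Subsingleton.elim (α := Γ(Q, U)) _ 0
  have hker : ∀ (n : ℕ) (U : X.affineOpens) (s : Γ(X, U.1)), p.app U.1 s = 0 →
      s ∈ (baseIdeal (X := X) (I ^ (n + 1))).ideal U := fun n U s hs => hι n U (by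
    rw [Scheme.Hom.ker_apply, RingHom.mem_ker, ← hσ n]
    exact (congrArg ((σ n).app (p ⁻¹ᵁ U.1)) hs).trans (map_zero _))
  have hlift : ∀ n, ∃ χ : G ⟶ Formal.modPow I (n + 1) (Coh.structureModule X),
      ε ≫ χ = Formal.modPowπ I (n + 1) (Coh.structureModule X) := fun n => by
    have h0 : kernel.ι ε ≫ Formal.modPowπ I (n + 1) (Coh.structureModule X) = 0 :=
      QCoh.hom_eq_zero_of_affine _ fun U hU x => FFun.π_app_eq_zero (Coh.structureModule X) (I ^ (n + 1)) U
        (by
          have hx := hker n ⟨U, hU⟩ ((kernel.ι ε).app U x) congr($(kernel.condition ε).app U x)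
          have h1 := Submodule.smul_mem_smul hx
            (Submodule.mem_top : (1 : Γ(X, U)) ∈ (⊤ : Submodule Γ(X, U) Γ(X, U)))
          exact Eq.mp (congrArg (· ∈ _) (mul_one (show Γ(X, U) from (kernel.ι ε).app U x))) h1)
    exact ⟨Abelian.epiDesc _ _ h0, Abelian.comp_epiDesc _ _ _⟩
  choose χn hχn using hlift
  let ψ₀ : ∀ n, Formal.modPow I (n + 1) G ⟶ Formal.modPow I (n + 1) (Coh.structureModule X) := fun n =>
    cokernel.desc _ (χn n) (smulFamily_comp_eq_zero (killedBy_of_isQuot (isQuot_modPowπ I (n + 1) _)) (χn n))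
  have hψ₀ : ∀ n, Formal.modPowπ I (n + 1) G ≫ ψ₀ n = χn n := fun n => cokernel.π_desc _ _ _
  let ψ : Formal.completion I G ⟶ Formal.completion I (Coh.structureModule X) :=
    NatTrans.ofOpSequence ψ₀ fun n => by
      haveI := (isQuot_modPowπ (X := X) I (n + 1 + 1) G).epi
      rw [completion_map_succ, completion_map_succ, ← cancel_epi (Formal.modPowπ I (n + 1 + 1) G),
        ← Category.assoc, ← Category.assoc, Formal.modPowπ_trans, hψ₀, hψ₀, ← cancel_epi ε, hχn,
        ← Category.assoc, hχn, Formal.modPowπ_trans]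
  obtain ⟨χ, hχ, -⟩ := SheafHomX.existsUnique_of_proper I hG hO (hps _ (QCoh.isClosed_support_of_ft hG.2))
    Set.inter_subset_left ψ
  have hsplit : ε ≫ χ = 𝟙 _ := by
    obtain ⟨φ, hφ, huniq⟩ := SheafHomX.existsUnique_of_proper I hO hO (hps _ (QCoh.isClosed_support_of_ft hO.2))
      Set.inter_subset_left (𝟙 (Formal.completion I (Coh.structureModule X)))
    refine (huniq _ fun n => ?_).trans (huniq _ fun n => (Category.comp_id _).trans (Category.id_comp _).symm).symm
    refine (Category.comp_id _).trans ?_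
    rw [Category.assoc]
    exact ((congrArg (ε ≫ ·) (hψ₀ n)).trans (hχn n)).symm.trans (congrArg (ε ≫ ·) (hχ n))
  haveI : IsClosedImmersion p := isClosedImmersion_iff_isAffineHom.2
    ⟨inferInstance, fun U hU => QCoh.app_surjective_of_epi hO.1 hG.1 ε hU⟩
  refine IsClosedImmersion.isIso_of_ker_eq p (𝟙 X) p (Category.comp_id p) ?_
  rw [Scheme.Hom.ker_eq_bot_of_isIso (f := 𝟙 X), eq_bot_iff]
  intro U s hs
  rw [Scheme.Hom.ker_apply, RingHom.mem_ker] at hs
  have h1 : χ.app U.1 (ε.app U.1 s) = s := congr($(hsplit).app U.1 s)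
  rw [show ε.app U.1 s = 0 from hs, map_zero] at h1
  exact h1 ▸ zero_mem _

theorem baseIdeal_ker_le_of_thick {X : Scheme.{u}} [X.Over (Spec (CommRingCat.of A))]
    [QuasiCompact (X ↘ Spec (CommRingCat.of A))] {Z : Scheme.{u}} (ζ : Z ⟶ X) [IsClosedImmersion ζ] (J : Ideal A)
    (hlift : ∀ {T : Scheme.{u}} (g : T ⟶ X) (v : T ⟶ Spec (CommRingCat.of (A ⧸ J))),
      g ≫ (X ↘ Spec (CommRingCat.of A)) = v ≫ Spec.map (CommRingCat.ofHom (Ideal.Quotient.mk J)) →
      ∃ c : T ⟶ Z, c ≫ ζ = g) : ζ.ker ≤ baseIdeal J := by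
  let L : X.IdealSheafData := baseIdeal J
  obtain ⟨v, hv⟩ := exists_lift_specQuot L.subschemeι J (Scheme.IdealSheafData.ker_subschemeι L).ge
  obtain ⟨c, hc⟩ := hlift L.subschemeι v hv
  calc ζ.ker ≤ (c ≫ ζ).ker := Scheme.Hom.le_ker_comp _ _
    _ = L := by rw [hc, Scheme.IdealSheafData.ker_subschemeι]

/-- Compatible systems of morphisms of the thickenings are algebraic. -/
theorem exists_algebraization_morphisms (I : Ideal A) [IsAdicComplete I A] {X Y : Scheme.{u}}
    (f : X ⟶ Spec (CommRingCat.of A)) (h : Y ⟶ Spec (CommRingCat.of A)) [IsProper f] [IsSeparated h]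
    [LocallyOfFiniteType h] [QuasiCompact h] (g : (n : ℕ) → (CohB1.thick f I n ⟶ CohB1.thick h I n))
    (hg₁ : ∀ n, g n ≫ CohB1.thickToBase h I n = CohB1.thickToBase f I n)
    (hg₂ : ∀ n, CohB1.thickTrans f I n ≫ g (n + 1) = g n ≫ CohB1.thickTrans h I n) :
    ∃ φ : X ⟶ Y, φ ≫ h = f ∧ ∀ n, CohB1.thickι f I n ≫ φ = g n ≫ CohB1.thickι h I n := by
  haveI : ∀ n, IsClosedImmersion (CohB1.specQuot I n) := fun n =>
    IsClosedImmersion.spec_of_surjective _ Ideal.Quotient.mk_surjective
  haveI : ∀ n, IsClosedImmersion (CohB1.thickι f I n) := fun n =>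
    MorphismProperty.pullback_fst (P := @IsClosedImmersion) f (CohB1.specQuot I n) inferInstance
  have htr : ∀ {T : Scheme.{u}} (a : T ⟶ Spec (CommRingCat.of A)) (n : ℕ),
      CohB1.thickTrans a I n ≫ CohB1.thickι a I (n + 1) = CohB1.thickι a I n := fun a n => by
    simp [CohB1.thickTrans]
  have htb : ∀ {T : Scheme.{u}} (a : T ⟶ Spec (CommRingCat.of A)) (n : ℕ),
      CohB1.thickTrans a I n ≫ CohB1.thickToBase a I (n + 1) = CohB1.thickToBase a I n ≫ CohB1.specQuotTrans I n :=
    fun a n => by simp [CohB1.thickTrans]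
  let P := pullback f h
  let fP : P ⟶ Spec (CommRingCat.of A) := pullback.fst f h ≫ f
  haveI : IsSeparated fP := inferInstance
  haveI : LocallyOfFiniteType fP := inferInstance
  haveI : QuasiCompact fP := inferInstance
  haveI : ∀ n, IsClosedImmersion (CohB1.thickι fP I n) := fun n =>
    MorphismProperty.pullback_fst (P := @IsClosedImmersion) fP (CohB1.specQuot I n) inferInstance
  have hP : ∀ n, CohB1.thickι f I n ≫ f = (g n ≫ CohB1.thickι h I n) ≫ h := fun n => by
    rw [Category.assoc, pullback.condition, pullback.condition]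
    exact (congrArg (· ≫ CohB1.specQuot I n) (hg₁ n)).symm.trans (Category.assoc _ _ _)
  let z : ∀ n, CohB1.thick f I n ⟶ CohB1.thick fP I n := fun n =>
    pullback.lift (pullback.lift (CohB1.thickι f I n) (g n ≫ CohB1.thickι h I n) (hP n))
      (CohB1.thickToBase f I n) (by
        show pullback.lift (CohB1.thickι f I n) (g n ≫ CohB1.thickι h I n) (hP n) ≫ pullback.fst f h ≫ f = _
        rw [pullback.lift_fst_assoc, pullback.condition])
  let π : ∀ n, CohB1.thick fP I n ⟶ CohB1.thick f I n := fun n =>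
    pullback.map fP (CohB1.specQuot I n) f (CohB1.specQuot I n) (pullback.fst f h) (𝟙 _) (𝟙 _)
      (Category.comp_id _) (by simp)
  have hπι : ∀ n, π n ≫ CohB1.thickι f I n = CohB1.thickι fP I n ≫ pullback.fst f h := fun n => by simp [π]
  have hzι : ∀ n, z n ≫ CohB1.thickι fP I n ≫ pullback.fst f h = CohB1.thickι f I n := fun n => by simp [z]
  have hzs : ∀ n, z n ≫ CohB1.thickι fP I n ≫ pullback.snd f h = g n ≫ CohB1.thickι h I n := fun n => by simp [z]
  have hzπ : ∀ n, z n ≫ π n = 𝟙 _ := fun n => by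
    rw [← cancel_mono (CohB1.thickι f I n), Category.assoc, hπι, hzι, Category.id_comp]
  have hzt : ∀ n, CohB1.thickTrans f I n ≫ z (n + 1) = z n ≫ CohB1.thickTrans fP I n := fun n => by
    rw [← cancel_mono (CohB1.thickι fP I (n + 1)), Category.assoc, Category.assoc, htr]
    apply pullback.hom_ext
    · simp only [Category.assoc, hzι, htr]
    · simp only [Category.assoc, hzs]
      rw [reassoc_of% (hg₂ n), htr]
  haveI hz : ∀ n, IsClosedImmersion (z n) := fun n => by
    haveI : IsSeparated (π n ≫ CohB1.thickι f I n) := hπι n ▸ inferInstance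
    haveI : IsSeparated (π n) := IsSeparated.of_comp (π n) (CohB1.thickι f I n)
    haveI : IsClosedImmersion (z n ≫ π n) := hzπ n ▸ inferInstance
    exact IsClosedImmersion.of_comp (z n) (π n)
  have hπt : ∀ n, CohB1.thickTrans fP I n ≫ π (n + 1) = π n ≫ CohB1.thickTrans f I n := fun n => by
    rw [← cancel_mono (CohB1.thickι f I (n + 1)), Category.assoc, Category.assoc, hπι, htr, hπι, ← Category.assoc, htr]
  have ht : ∀ n, IsPullback (CohB1.thickTrans f I n) (z n) (z (n + 1)) (CohB1.thickTrans fP I n) := fun n => by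
    haveI : Mono (CohB1.thickTrans fP I n) := by
      haveI : Mono (CohB1.thickTrans fP I n ≫ CohB1.thickι fP I (n + 1)) := by rw [htr]; infer_instance
      exact mono_of_mono _ (CohB1.thickι fP I (n + 1))
    have hfst : ∀ s : PullbackCone (z (n + 1)) (CohB1.thickTrans fP I n),
        (s.snd ≫ π n) ≫ CohB1.thickTrans f I n = s.fst := fun s => by
      rw [Category.assoc, ← hπt, ← reassoc_of% s.condition, hzπ, Category.comp_id]
    refine IsPullback.of_isLimit' ⟨hzt n⟩ (PullbackCone.IsLimit.mk _ (fun s => s.snd ≫ π n) hfst (fun s => ?_) ?_)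
    · rw [← cancel_mono (CohB1.thickTrans fP I n), Category.assoc, ← hzt, ← Category.assoc, hfst s, s.condition]
    · intro s m _ hm
      rw [← hm, Category.assoc, hzπ, Category.comp_id]
  letI : P.Over (Spec (CommRingCat.of A)) := ⟨fP⟩
  haveI : IsSeparated (P ↘ Spec (CommRingCat.of A)) := ‹IsSeparated fP›
  haveI : LocallyOfFiniteType (P ↘ Spec (CommRingCat.of A)) := ‹LocallyOfFiniteType fP›
  haveI : QuasiCompact (P ↘ Spec (CommRingCat.of A)) := ‹QuasiCompact fP›
  have hz0 : IsProper (z 0 ≫ CohB1.thickToBase fP I 0) := by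
    rw [show z 0 ≫ CohB1.thickToBase fP I 0 = CohB1.thickToBase f I 0 from pullback.lift_snd _ _ _]
    exact MorphismProperty.pullback_snd (P := @IsProper) f (CohB1.specQuot I 0) inferInstance
  obtain ⟨W, i, w, hi, hiP, -, hw⟩ := exists_algebraization_closed fP rfl I (fun n => CohB1.thick f I n) z
    (fun n => CohB1.thickTrans f I n) hz ht hz0
  letI : W.Over (Spec (CommRingCat.of A)) := ⟨i ≫ fP⟩
  letI : X.Over (Spec (CommRingCat.of A)) := ⟨f⟩
  haveI : IsProper (W ↘ Spec (CommRingCat.of A)) := hiP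
  haveI : IsProper (X ↘ Spec (CommRingCat.of A)) := ‹IsProper f›
  haveI := hi
  let p : W ⟶ X := i ≫ pullback.fst f h
  have hσ : ∀ n, w n ≫ p = CohB1.thickι f I n := fun n => by
    rw [← Category.assoc, (hw n).w, Category.assoc, hzι]
  haveI : IsClosedImmersion (w 0) := by
    haveI : IsClosedImmersion (w 0 ≫ i) := by rw [(hw 0).w]; infer_instance
    exact IsClosedImmersion.of_comp (w 0) i
  haveI : IsIso p := by
    refine isIso_of_formal I p (Category.assoc _ _ _) (fun n => CohB1.thickι f I n)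
      (fun n => baseIdeal_ker_le_of_thick _ _ fun gT v hv => ⟨pullback.lift gT v hv, pullback.lift_fst _ _ _⟩)
      w hσ (baseIdeal_ker_le_of_thick _ _ fun gT v hv => ?_)
    exact ⟨(hw 0).lift gT (pullback.lift (gT ≫ i) v ((Category.assoc _ _ _).trans hv)) (pullback.lift_fst _ _ _).symm,
      (hw 0).lift_fst _ _ _⟩
  refine ⟨inv p ≫ i ≫ pullback.snd f h, ?_, fun n => ?_⟩
  · rw [Category.assoc, Category.assoc, ← pullback.condition, IsIso.inv_comp_eq, ← Category.assoc]
  · rw [← hσ n, Category.assoc, IsIso.hom_inv_id_assoc, ← Category.assoc, (hw n).w, Category.assoc, hzs]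

end Groth.Agent.Algz7
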