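import Groth.Agent.Algz7.ClopenProper
import Mathlib.AlgebraicGeometry.ZariskisMainTheorem

/-!
# Isolated points of the closed fibre over a complete local ring split off
-/

set_option linter.style.haveILetI false
set_option linter.unusedSectionVars false
set_option backward.isDefEq.respectTransparency false
set_option backward.isDefEq.respectTransparency.types false

universe u

open CategoryTheory CategoryTheory.Limits AlgebraicGeometry Opposite TopologicalSpace

noncomputable section

namespace Groth.Agent.Algz7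

/-- The local ring of an affine scheme at a point in the closure of every point is the ring of sections. -/
theorem bijective_germ_of_specializes {U : Scheme.{u}} [IsAffine U] (x : U) (h : ∀ y : U, y ⤳ x) :
    Function.Bijective (U.presheaf.germ ⊤ x trivial) := by
  letI := (U.presheaf.germ ⊤ x trivial).hom.toAlgebra
  haveI := (isAffineOpen_top U).isLocalization_stalk ⟨x, trivial⟩
  refine (IsLocalization.atUnits _ ((isAffineOpen_top U).primeIdealOf ⟨x, trivial⟩).asIdeal.primeCompl
    (S := U.presheaf.stalk x) fun a ha => ?_).bijective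
  have hx : x ∈ U.basicOpen a := by
    rw [Scheme.mem_basicOpen (X := U) (U := ⊤) a x trivial]
    exact IsLocalization.map_units (U.presheaf.stalk x) (⟨a, ha⟩ : (Ideal.primeCompl _))
  have htop : U.basicOpen a = ⊤ := top_le_iff.1 fun y _ => (h y).mem_open (U.basicOpen a).2 hx
  show IsUnit a
  obtain ⟨b, hb⟩ := (RingedSpace.isUnit_res_basicOpen _ a).exists_right_inv
  have hbij : Function.Bijective (U.presheaf.map (homOfLE (U.basicOpen_le a)).op) := by
    haveI : IsIso (homOfLE (U.basicOpen_le a)) := ⟨homOfLE htop.ge, Subsingleton.elim _ _, Subsingleton.elim _ _⟩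
    exact ConcreteCategory.bijective_of_isIso _
  obtain ⟨b', rfl⟩ := hbij.2 b
  refine IsUnit.of_mul_eq_one (M := Γ(U, ⊤)) b' (hbij.1 ?_)
  rw [map_mul, map_one]
  exact hb

theorem exists_isolated_split (A : Type u) [CommRing A] [IsLocalRing A] [IsNoetherianRing A]
    [IsAdicComplete (IsLocalRing.maximalIdeal A) A] (X : Scheme.{u}) (f : X ⟶ Spec (CommRingCat.of A))
    [LocallyOfFiniteType f] [IsSeparated f] (x : X) (hx : f.base x = IsLocalRing.closedPoint A)
    (hisol : IsOpen ((Subtype.val : (f.base ⁻¹' {IsLocalRing.closedPoint A}) → X) ⁻¹' {x})) :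
    ((Scheme.ΓSpecIso (CommRingCat.of A)).inv ≫ f.appTop ≫ X.presheaf.germ ⊤ x trivial).hom.Finite ∧
      IsOpenImmersion (X.fromSpecStalk x) ∧ IsClosedImmersion (X.fromSpecStalk x) := by
  let m := IsLocalRing.maximalIdeal A
  obtain ⟨O', hO', hO'x⟩ := isOpen_induced_iff.1 hisol
  have hxO' : x ∈ O' := (Set.ext_iff.1 hO'x ⟨x, hx⟩).2 rfl
  obtain ⟨_, ⟨O₀, hO, rfl⟩, hxO, hOO'⟩ := X.isBasis_affineOpens.exists_subset_of_mem_open hxO' hO'
  let O : X.Opens := O₀
  replace hxO : x ∈ O := hxO
  have hOaff : IsAffineOpen O := hO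
  haveI : IsAffine (O : Scheme.{u}) := hOaff
  have huniq : ∀ y : X, y ∈ O → f.base y = IsLocalRing.closedPoint A → y = x := fun y hy hfy =>
    (Set.ext_iff.1 hO'x ⟨y, hfy⟩).1 (hOO' hy)
  let g : (O : Scheme.{u}) ⟶ Spec (CommRingCat.of A) := O.ι ≫ f
  have hr : Set.range (CohB1.thickι g m 0) = g ⁻¹' {IsLocalRing.closedPoint A} := by
    rw [show Set.range (CohB1.thickι g m 0) = g ⁻¹' Set.range (CohB1.specQuot m 0) from Scheme.Pullback.range_fst _ _,
      show Set.range (CohB1.specQuot m 0) = Set.range (PrimeSpectrum.comap (Ideal.Quotient.mk (m ^ (0 + 1)))) from rfl,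
      range_comap_of_surjective _ _ Ideal.Quotient.mk_surjective, Ideal.mk_ker, zero_add, pow_one]
    refine Set.ext fun z => ⟨fun h => ?_, fun h => ?_⟩
    · refine PrimeSpectrum.ext ?_
      exact ((IsLocalRing.maximalIdeal.isMaximal A).eq_of_le (g z).isPrime.ne_top h).symm
    · show m ≤ (g z).asIdeal
      rw [show g z = IsLocalRing.closedPoint A from h]
      exact le_rfl
  haveI : IsClosedImmersion (CohB1.specQuot m 0) := IsClosedImmersion.spec_of_surjective _ Ideal.Quotient.mk_surjective
  haveI : IsClosedImmersion (CohB1.thickι g m 0) :=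
    MorphismProperty.pullback_fst (P := @IsClosedImmersion) g (CohB1.specQuot m 0) inferInstance
  have hsub : ∀ a b : CohB1.thick g m 0, a = b := fun a b => (CohB1.thickι g m 0).isClosedEmbedding.injective (by
    refine O.ι.isOpenEmbedding.injective ?_
    have h1 : ∀ c, f.base (O.ι (CohB1.thickι g m 0 c)) = IsLocalRing.closedPoint A := fun c => hr.le ⟨c, rfl⟩
    exact (huniq _ (CohB1.thickι g m 0 a).2 (h1 a)).trans (huniq _ (CohB1.thickι g m 0 b).2 (h1 b)).symm)
  let V : (CohB1.thick g m 0).Opens := ⊤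
  haveI : IsArtinianRing (A ⧸ m ^ (0 + 1)) := by
    haveI : (m ^ (0 + 1)).IsMaximal := by rw [zero_add, pow_one]; infer_instance
    letI := Ideal.Quotient.field (m ^ (0 + 1))
    infer_instance
  haveI : IsArtinianScheme (Spec (CommRingCat.of (A ⧸ m ^ (0 + 1)))) := inferInstance
  haveI : LocallyQuasiFinite (CohB1.thickToBase g m 0) := LocallyQuasiFinite.of_injective fun a b _ => hsub a b
  haveI : IsFinite (CohB1.thickToBase g m 0) := IsFinite.of_locallyQuasiFinite _
  haveI : IsProper (V.ι ≫ CohB1.thickToBase g m 0) := by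
    haveI : IsIso V.ι := (Scheme.topIso _).isIso_hom
    infer_instance
  obtain ⟨U, hUc, hUp, hUV⟩ := exists_clopen_proper m g V
  haveI := hUp
  haveI : IsClosedImmersion U.ι := .of_isPreimmersion _ (by rw [Scheme.Opens.range_ι]; exact hUc)
  haveI : IsAffine (U : Scheme.{u}) := isAffine_of_isAffineHom U.ι
  haveI : IsAffineHom (U.ι ≫ g) := isAffineHom_of_isAffine _
  haveI : IsFinite (U.ι ≫ g) := IsFinite.iff_isProper_and_isAffineHom.2 ⟨hUp, inferInstance⟩
  have hxU : (⟨x, hxO⟩ : O) ∈ U := by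
    obtain ⟨z, hz⟩ := hr.ge (show (⟨x, hxO⟩ : O) ∈ g ⁻¹' {IsLocalRing.closedPoint A} from hx)
    exact hz ▸ hUV.ge (trivial : z ∈ V)
  let x' : (U : Scheme.{u}) := ⟨⟨x, hxO⟩, hxU⟩
  let j : (U : Scheme.{u}) ⟶ X := U.ι ≫ O.ι
  have hjx : j x' = x := rfl
  haveI : IsProper j := by
    haveI : IsProper (j ≫ f) := (Category.assoc U.ι O.ι f).symm ▸ hUp
    exact IsProper.of_comp j f
  haveI : IsClosedImmersion j := .of_isPreimmersion _ j.isClosedMap.isClosed_range
  have hspec : ∀ y : (U : Scheme.{u}), y ⤳ x' := fun y => by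
    have hcl : IsClosed ((U.ι ≫ g) '' closure {y}) := (U.ι ≫ g).isClosedMap _ isClosed_closure
    obtain ⟨z, hz, hzc⟩ := (IsLocalRing.specializes_closedPoint ((U.ι ≫ g) y)).mem_closed hcl
      ⟨y, subset_closure rfl, rfl⟩
    have hzx : z = x' := j.isOpenEmbedding.injective (huniq (j z) (U.ι z).2 hzc)
    exact hzx ▸ specializes_iff_mem_closure.2 hz
  have hbij := bijective_germ_of_specializes x' hspec
  haveI : IsIso ((U : Scheme.{u}).presheaf.germ ⊤ x' trivial) := (ConcreteCategory.isIso_iff_bijective _).2 hbij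
  haveI hU' : IsIso ((U : Scheme.{u}).fromSpecStalk x') := by
    rw [← (isAffineOpen_top (U : Scheme.{u})).fromSpecStalk_eq_fromSpecStalk (x := x') trivial, IsAffineOpen.fromSpecStalk,
      IsAffineOpen.fromSpec_top]
    infer_instance
  have hkey : Spec.map (j.stalkMap x') ≫ X.fromSpecStalk x = (U : Scheme.{u}).fromSpecStalk x' ≫ j :=
    Scheme.SpecMap_stalkMap_fromSpecStalk j
  refine ⟨?_, ?_, ?_⟩
  · have hfin : ((U.ι ≫ g).appTop).hom.Finite := IsFinite.finite_app (f := U.ι ≫ g) ⊤ (isAffineOpen_top _)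
    have e : X.presheaf.germ ⊤ x trivial ≫ j.stalkMap x' = j.appTop ≫ (U : Scheme.{u}).presheaf.germ ⊤ x' trivial :=
      Scheme.Hom.germ_stalkMap j ⊤ x' trivial
    haveI : IsIso (j.stalkMap x') := inferInstance
    have e2 : (Scheme.ΓSpecIso (CommRingCat.of A)).inv ≫ f.appTop ≫ X.presheaf.germ ⊤ x trivial =
        ((Scheme.ΓSpecIso (CommRingCat.of A)).inv ≫ (U.ι ≫ g).appTop ≫ (U : Scheme.{u}).presheaf.germ ⊤ x' trivial) ≫
          inv (j.stalkMap x') := by
      rw [← show j ≫ f = U.ι ≫ g from Category.assoc _ _ _, Scheme.Hom.comp_appTop]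
      simp only [Category.assoc]
      refine congrArg (fun t => (Scheme.ΓSpecIso (CommRingCat.of A)).inv ≫ f.appTop ≫ t) ?_
      refine Eq.trans ?_ (Category.assoc _ _ _)
      exact (IsIso.eq_comp_inv (j.stalkMap x')).2 e
    rw [e2]
    refine RingHom.Finite.comp (RingHom.Finite.of_surjective _
      (ConcreteCategory.bijective_of_isIso (inv (j.stalkMap x'))).2) ?_
    refine RingHom.Finite.comp (RingHom.Finite.comp (RingHom.Finite.of_surjective _ hbij.2) hfin) ?_
    exact RingHom.Finite.of_surjective _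
      (ConcreteCategory.bijective_of_isIso (Scheme.ΓSpecIso (CommRingCat.of A)).inv).2
  · haveI : IsIso (Spec.map (j.stalkMap x')) := inferInstance
    rw [show X.fromSpecStalk x = inv (Spec.map (j.stalkMap x')) ≫ (U : Scheme.{u}).fromSpecStalk x' ≫ j from by
      rw [← hkey, IsIso.inv_hom_id_assoc]]
    infer_instance
  · haveI : IsIso (Spec.map (j.stalkMap x')) := inferInstance
    rw [show X.fromSpecStalk x = inv (Spec.map (j.stalkMap x')) ≫ (U : Scheme.{u}).fromSpecStalk x' ≫ j from by
      rw [← hkey, IsIso.inv_hom_id_assoc]]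
    infer_instance

end Groth.Agent.Algz7
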