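import Groth.Agent.ProjX.HProj
import Groth.Agent.SegreX.Coord

/-!
# Closed subschemes of projective space over a ring as `Proj` of algebras generated in degree one
-/

set_option linter.style.haveILetI false
set_option linter.unusedSectionVars false
set_option backward.isDefEq.respectTransparency false
set_option backward.isDefEq.respectTransparency.types false

universe u

open CategoryTheory CategoryTheory.Limits AlgebraicGeometry

namespace Groth.Agent.Algz7

open Groth.Agent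

theorem exists_proj_algebra {A : Type u} [CommRing A] {X : Scheme.{u}} {n : ℕ} (i : X ⟶ CohB1.ProjSpace n A)
    [IsClosedImmersion i] :
    ∃ (S : Type u) (_ : CommRing S) (_ : Algebra A S) (𝒮 : ℕ → Submodule A S) (_ : GradedAlgebra 𝒮) (s : Finset S),
      Function.Surjective (algebraMap A (𝒮 0)) ∧ (∀ g ∈ s, g ∈ 𝒮 1) ∧
      (HomogeneousIdeal.irrelevant 𝒮).toIdeal = Ideal.span (s : Set S) ∧
      ∃ e : X ≅ Proj 𝒮, e.hom ≫ Proj.toSpecZero 𝒮 ≫ Spec.map (CommRingCat.ofHom (algebraMap A (𝒮 0))) =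
        i ≫ CohB1.ProjSpace.toSpec n A := by
  classical
  let P := MvPolynomial (Fin (n + 1)) A
  let 𝒜 := CohB1.polyGrading n A
  let s₀ : Finset P := Finset.image MvPolynomial.X Finset.univ
  have hs1 : ∀ f ∈ s₀, f ∈ 𝒜 1 := fun f hf => by
    obtain ⟨l, -, rfl⟩ := Finset.mem_image.1 hf
    exact MvPolynomial.isHomogeneous_X A l
  have hspan : (HomogeneousIdeal.irrelevant 𝒜).toIdeal = Ideal.span (s₀ : Set P) := by
    refine le_antisymm ((SegreX.irrelevant_le_span n A).trans (Ideal.span_mono ?_)) ?_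
    · rintro _ ⟨l, rfl⟩
      exact Finset.mem_image.2 ⟨l, Finset.mem_univ _, rfl⟩
    · exact Ideal.span_le.2 fun f hf => HomogeneousIdeal.mem_irrelevant_of_mem 𝒜 one_pos (hs1 f hf)
  let I := Proj16.subIdeal 𝒜 i s₀ hs1
  letI := Proj16.quotGradedAlgebra 𝒜 I (Proj16.subIdeal_isHomogeneous 𝒜 i s₀ hs1)
  let ℬ := Proj16.quotGrading 𝒜 I
  let φ : 𝒜 →+*ᵍ ℬ :=
    { Ideal.Quotient.mk I with map_mem := fun {_ _} ha => Proj16.mk_mem_quotGrading 𝒜 I ha }
  have hsurj : Function.Surjective φ := Ideal.Quotient.mk_surjective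
  have hφ : HomogeneousIdeal.irrelevant ℬ ≤ (HomogeneousIdeal.irrelevant 𝒜).map φ := by
    rw [HomogeneousIdeal.irrelevant_le]
    rintro k hk _ ⟨a, ha, rfl⟩
    exact Ideal.mem_map_of_mem _ (HomogeneousIdeal.mem_irrelevant_of_mem _ hk ha)
  obtain ⟨e, he⟩ := ProjX.exists_iso_of_ker i s₀ hs1 hspan φ hsurj hφ fun a => Ideal.Quotient.eq_zero_iff_mem
  refine ⟨P ⧸ I, inferInstance, inferInstance, ℬ, inferInstance, s₀.image φ, ?_, ?_, ?_, e, ?_⟩
  · rintro ⟨_, a, ha, rfl⟩
    refine ⟨MvPolynomial.coeff 0 a, Subtype.ext ?_⟩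
    show algebraMap A (P ⧸ I) (MvPolynomial.coeff 0 a) = Ideal.Quotient.mk I a
    conv_rhs => rw [← show MvPolynomial.C (MvPolynomial.coeff 0 a) = a from by
      rw [← MvPolynomial.homogeneousComponent_zero, MvPolynomial.homogeneousComponent_of_mem ha, if_pos rfl]]
    rfl
  · intro g hg
    obtain ⟨f, hf, rfl⟩ := Finset.mem_image.1 hg
    exact φ.2 (hs1 f hf)
  · refine le_antisymm ?_ (Ideal.span_le.2 fun g hg => ?_)
    · refine le_trans (show (HomogeneousIdeal.irrelevant ℬ).toIdeal ≤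
        ((HomogeneousIdeal.irrelevant 𝒜).map φ).toIdeal from hφ) ?_
      show Ideal.map (φ : P →+* P ⧸ I) (HomogeneousIdeal.irrelevant 𝒜).toIdeal ≤ _
      rw [hspan, Ideal.map_span]
      exact (congrArg Ideal.span (Finset.coe_image (f := φ) (s := s₀)).symm).le
    · obtain ⟨f, hf, rfl⟩ := Finset.mem_image.1 hg
      exact HomogeneousIdeal.mem_irrelevant_of_mem ℬ one_pos (φ.2 (hs1 f hf))
  · rw [← ProjX.map_toSpecZero φ hφ (CommRingCat.ofHom (algebraMap A (𝒜 0)))
      (CommRingCat.ofHom (algebraMap A (ℬ 0))) fun r => rfl]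
    rw [← Category.assoc, he]
    rfl

end Groth.Agent.Algz7
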