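import Groth.Agent.Algz7.Completion
import Groth.Agent.Algz7.PullbackFormal
import Groth.Agent.ExistEasy.PP.Existence
import Groth.Agent.QCoh.RpushClosed
import Groth.Agent.QCoh.ProperOver
import Groth.Agent.QCoh.DevissageP
import Groth.Agent.ZClosLib.Basic
import Groth.Agent.NagataLib.General
import Groth.Agent.S0384

/-!
# Algebraization of coherent formal modules with proper support
-/

set_option linter.style.haveILetI false
set_option linter.unusedSectionVars false
set_option backward.isDefEq.respectTransparency false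
set_option backward.isDefEq.respectTransparency.types false
set_option maxHeartbeats 1000000

universe u

open CategoryTheory CategoryTheory.Limits AlgebraicGeometry Opposite TopologicalSpace

noncomputable section

namespace Groth.Agent.Algz7

open Groth.Agent

variable {A : Type u} [CommRing A] {X Y : Scheme.{u}} [X.Over (Spec (CommRingCat.of A))]
  [Y.Over (Spec (CommRingCat.of A))]

theorem app_zero_of_support {N : X.Modules} {W : X.Opens} (h : ∀ x ∈ W, x ∉ CohB1.support N) :
    Subsingleton Γ(N, W) :=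
  subsingleton_of_forall_eq 0 fun a =>
    TopCat.Presheaf.section_ext ⟨N.presheaf, N.isSheaf⟩ _ _ _ fun z hz => by
      haveI : Subsingleton (N.presheaf.stalk z) := not_not.1 (h z hz)
      exact Subsingleton.elim _ _

/-- The direct image of a module whose support has closed image is supported in that image. -/
theorem support_push_subset {X Y : Scheme.{u}} (j : X ⟶ Y) {N : X.Modules} {C : Set Y} (hC : IsClosed C)
    (hN : ∀ x, x ∈ CohB1.support N → j x ∈ C) :
    CohB1.support ((Scheme.Modules.pushforward j).obj N) ⊆ C := by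
  intro y hy
  by_contra hyC
  refine hy (subsingleton_of_forall_eq 0 fun t => ?_)
  obtain ⟨W, hyW, s, rfl⟩ := ((Scheme.Modules.pushforward j).obj N).presheaf.germ_exist t
  let W' : Y.Opens := W ⊓ ⟨Cᶜ, hC.isOpen_compl⟩
  haveI : Subsingleton Γ((Scheme.Modules.pushforward j).obj N, W') :=
    app_zero_of_support (N := N) (W := j ⁻¹ᵁ W') fun x hx h => hx.2 (hN x h)
  rw [← ((Scheme.Modules.pushforward j).obj N).presheaf.germ_res_apply (homOfLE (inf_le_left : W' ≤ W)) y
    ⟨hyW, hyC⟩ s]
  exact (congrArg _ (Subsingleton.elim _ (0 : Γ((Scheme.Modules.pushforward j).obj N, W')))).trans (map_zero _)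

/-- A map of modules supported in the open is an isomorphism when it is one on the open. -/
theorem isIso_of_restrict_support {X Y : Scheme.{u}} (j : X ⟶ Y) [IsOpenImmersion j] {M N : Y.Modules}
    (φ : M ⟶ N) [IsIso ((Scheme.Modules.restrictFunctor j).map φ)] {C : Set Y} (hC : IsClosed C)
    (hCj : C ⊆ Set.range j) (hM : CohB1.support M ⊆ C) (hN : CohB1.support N ⊆ C) : IsIso φ := by
  refine ZClosLib.isIso_of_good φ (fun W => W ≤ j.opensRange ∨ ∀ x ∈ W, x ∉ C) (fun V x hx => ?_) fun W hW => ?_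
  · by_cases hxC : x ∈ C
    · exact ⟨V ⊓ j.opensRange, inf_le_left, ⟨hx, hCj hxC⟩, Or.inl inf_le_right⟩
    · exact ⟨V ⊓ ⟨Cᶜ, hC.isOpen_compl⟩, inf_le_left, ⟨hx, hxC⟩, Or.inr fun y hy => hy.2⟩
  · rcases hW with h | h
    · have hb : Function.Bijective (φ.app (j ''ᵁ (j ⁻¹ᵁ W))) :=
        ZClosLib.app_bijective_of_isIso ((Scheme.Modules.restrictFunctor j).map φ) (j ⁻¹ᵁ W)
      rwa [Scheme.Hom.image_preimage_eq_opensRange_inf, inf_eq_right.2 h] at hb
    · haveI : Subsingleton Γ(M, W) := app_zero_of_support fun x hx hx' => h x hx (hM hx')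
      haveI : Subsingleton Γ(N, W) := app_zero_of_support fun x hx hx' => h x hx (hN hx')
      exact ⟨fun a b _ => Subsingleton.elim a b, fun b => ⟨0, Subsingleton.elim _ b⟩⟩

theorem isIso_of_isQuot {J : Ideal A} {M M' N N' : X.Modules} (e : M ≅ M') {g : M ⟶ N} {g' : M' ⟶ N'}
    (hg : IsQuot J g) (hg' : IsQuot J g') (c : N ⟶ N') (h : g ≫ c = e.hom ≫ g') : IsIso c := by
  obtain ⟨ψ, hψ⟩ := hg'.desc (e.inv ≫ g) (smulFamily_comp_eq_zero (killedBy_of_isQuot hg) _)
  haveI := hg.epi
  haveI := hg'.epi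
  refine ⟨ψ, ?_, ?_⟩
  · rw [← cancel_epi g, reassoc_of% h, hψ, Iso.hom_inv_id_assoc, Category.comp_id]
  · rw [← cancel_epi g', reassoc_of% hψ, h, Iso.inv_hom_id_assoc, Category.comp_id]

/-- Quotients by an ideal of the base pass to the direct image, for supports closed in the target. -/
theorem IsQuot.push_open (j : X ⟶ Y) [IsOpenImmersion j]
    (hj : j ≫ (Y ↘ Spec (CommRingCat.of A)) = X ↘ Spec (CommRingCat.of A)) {J : Ideal A} {M N : X.Modules}
    {g : M ⟶ N} (hg : IsQuot J g) {C : Set Y} (hC : IsClosed C) (hCj : C ⊆ Set.range j)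
    (hMq : Coh.IsQCoh ((Scheme.Modules.pushforward j).obj M))
    (hM : ∀ x, x ∈ CohB1.support M → j x ∈ C) (hN : ∀ x, x ∈ CohB1.support N → j x ∈ C) :
    IsQuot J ((Scheme.Modules.pushforward j).map g) := by
  haveI : (Scheme.Modules.pushforward j).PreservesZeroMorphisms :=
    ⟨fun _ _ => rfl⟩
  have hk : Formal.KilledBy J ((Scheme.Modules.pushforward j).obj N) := fun a ha => by
    rw [← pushforward_smulMod j hj, killedBy_of_isQuot hg a ha, Functor.map_zero]
  have h0 := smulFamily_comp_eq_zero hk ((Scheme.Modules.pushforward j).map g)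
  refine ⟨h0, ?_⟩
  let π := cokernel.π (Formal.smulFamily J ((Scheme.Modules.pushforward j).obj M))
  have hπ : IsQuot J π := ⟨cokernel.condition _, by
    rw [show cokernel.desc _ π (cokernel.condition _) = 𝟙 _ from
      coequalizer.hom_ext ((cokernel.π_desc _ _ _).trans (Category.comp_id _).symm)]
    infer_instance⟩
  let c := cokernel.desc _ ((Scheme.Modules.pushforward j).map g) h0
  have hq : Coh.IsQCoh (cokernel (Formal.smulFamily J ((Scheme.Modules.pushforward j).obj M))) :=
    QCoh.isQCoh_cokernel (QCoh.isQCoh_colimit _ fun _ => hMq) hMq _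
  haveI : Epi π := coequalizer.π_epi
  haveI : IsIso ((Scheme.Modules.restrictFunctor j).map c) := by
    let ε := (Scheme.Modules.restrictAdjunction j).counit
    haveI : IsIso ε := inferInstance
    have h1 := (hπ.restrict j hj)
    refine @IsIso.of_isIso_comp_right _ _ _ _ _ _ (ε.app N) inferInstance ?_
    refine isIso_of_isQuot (asIso (ε.app M)) h1 hg _ ?_
    rw [← Category.assoc, ← Functor.map_comp, cokernel.π_desc]
    exact ε.naturality g
  exact isIso_of_restrict_support j c hC hCj
    ((QCoh.support_of_epi hMq hq π).trans (support_push_subset j hC hM)) (support_push_subset j hC hN)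

theorem isCoh_push_properSupport {X Y : Scheme.{u}} (j : X ⟶ Y) [LocallyOfFiniteType j] [IsLocallyNoetherian Y]
    {N : X.Modules} (hN : Coh.IsCoh N) (hs : ClSub.IsProperOver j (CohB1.support N)) :
    Coh.IsCoh ((Scheme.Modules.pushforward j).obj N) := by
  haveI : HasInjectiveResolutions X.Modules := KFlatLib.hasInjectiveResolutions_modules
  haveI := SpObjSS.enoughInjectives_of_hasInjectiveResolutions (C := X.Modules)
  haveI := QCoh.preservesFiniteLimits_push j
  have h := QCoh.isCoh_Rpush_of_properSupport j hN hs 0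
  haveI : IsIso ((Scheme.Modules.pushforward j).rightDerivedZeroIsoSelf.app N).hom := inferInstance
  exact isCoh_of_epi ((Scheme.Modules.pushforward j).rightDerivedZeroIsoSelf.app N).hom h
    ((QCoh.isQCoh_iff_iso ((Scheme.Modules.pushforward j).rightDerivedZeroIsoSelf.app N)).1 h.1)

/-- A system with zero first term is zero. -/
theorem isZero_of_isZero_zero {I : Ideal A} {G : ℕᵒᵖ ⥤ X.Modules} (hG : Formal.IsCohFormal I G)
    (h : IsZero (G.obj (op 0))) (n : ℕ) : IsZero (G.obj (op n)) := by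
  have key : ∀ (k : ℕ) (P : X.Modules), Formal.KilledBy (I ^ k) P → ∀ φ : G.obj (op n) ⟶ P, φ = 0 := by
    have h1 : ∀ (P : X.Modules) (φ : G.obj (op n) ⟶ P), (∀ a ∈ I, Formal.smulMod A _ a ≫ φ = 0) → φ = 0 := by
      intro P φ hφ
      have hπ := cokernel.condition (Formal.smulFamily (I ^ (0 + 1)) (G.obj (op n)))
      obtain ⟨ψ, hψ⟩ := factor hG (Nat.zero_le n) (n := 0)
        (fun a ha => by
          haveI : Epi (cokernel.π (Formal.smulFamily (I ^ (0 + 1)) (G.obj (op n)))) := coequalizer.π_epi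
          rw [← cancel_epi (cokernel.π (Formal.smulFamily (I ^ (0 + 1)) (G.obj (op n)))), ← smulMod_naturality,
            smulMod_comp_eq_zero hπ ha, comp_zero])
        (cokernel.π (Formal.smulFamily (I ^ (0 + 1)) (G.obj (op n))))
      rw [h.eq_of_src ψ 0, comp_zero] at hψ
      have h0 : Formal.smulFamily (I ^ (0 + 1)) (G.obj (op n)) ≫ φ = 0 := Sigma.hom_ext _ _ fun a => by
        rw [comp_zero, ← Category.assoc, Formal.smulFamily, Sigma.ι_desc]
        exact hφ a.1 (by simpa using a.2)
      rw [← cokernel.π_desc _ φ h0, ← hψ, zero_comp]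
    intro k
    induction k with
    | zero =>
      intro P hP φ
      have h2 : Formal.smulMod A P (1 : A) = 𝟙 P := by
        refine Scheme.Modules.hom_ext _ _ fun U => ?_
        ext s
        refine (FFun.smulMod_app P (1 : A) U s).trans ?_
        exact (congrArg (fun z : Γ(X, U) => z • (show Γ(P, U) from s)) (map_one (FFun.φsec (A := A) U))).trans (one_smul _ _)
      rw [← Category.comp_id φ, ← h2, hP 1 (by simp), comp_zero]
    | succ k ih =>
      intro P hP φ
      refine h1 P φ fun a ha => ?_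
      let π := cokernel.π (Formal.smulFamily (I ^ k) (G.obj (op n)))
      haveI : Epi π := coequalizer.π_epi
      have hk : Formal.KilledBy (I ^ k) (cokernel (Formal.smulFamily (I ^ k) (G.obj (op n)))) := fun b hb => by
        rw [← cancel_epi π, ← smulMod_naturality, smulMod_comp_eq_zero (cokernel.condition _) hb, comp_zero]
      have hz : Formal.smulFamily (I ^ k) (G.obj (op n)) ≫ Formal.smulMod A _ a ≫ φ = 0 :=
        Sigma.hom_ext _ _ fun b => by
          rw [comp_zero, ← Category.assoc, Formal.smulFamily, Sigma.ι_desc, smulMod_naturality φ a,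
            ← Category.assoc, smulMod_naturality φ, Category.assoc]
          have hab : Formal.smulMod A P (b : A) ≫ Formal.smulMod A P a = Formal.smulMod A P ((b : A) * a) := by
            refine Scheme.Modules.hom_ext _ _ fun U => ?_
            ext s
            simp only [Scheme.Modules.Hom.comp_app, ConcreteCategory.comp_apply, FFun.smulMod_app, map_mul]
            rw [← mul_smul, mul_comm]
          rw [hab, hP _ (pow_succ I k ▸ Ideal.mul_mem_mul b.2 ha), comp_zero]
      rw [← cokernel.π_desc _ _ hz]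
      exact (congrArg (· ≫ cokernel.desc _ _ hz) (ih _ hk π)).trans zero_comp
  rw [IsZero.iff_id_eq_zero]
  exact key (n + 1) _ (hG.2.1 n) _

/-- All terms are supported in the support of the first. -/
theorem support_formal_subset {I : Ideal A} {G : ℕᵒᵖ ⥤ X.Modules} (hG : Formal.IsCohFormal I G) (n : ℕ) :
    CohB1.support (G.obj (op n)) ⊆ CohB1.support (G.obj (op 0)) := by
  intro x hx
  by_contra h0
  let V : X.Opens := ⟨_, (QCoh.isClosed_support_of_ft (hG.1 0).2).isOpen_compl⟩
  letI : (V : Scheme.{u}).Over (Spec (CommRingCat.of A)) := ⟨V.ι ≫ (X ↘ Spec (CommRingCat.of A))⟩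
  have hV : Formal.IsCohFormal I (G ⋙ Scheme.Modules.restrictFunctor V.ι) := isCohFormal_restrict V.ι rfl hG
  have hz : IsZero ((G.obj (op n)).restrict V.ι) :=
    isZero_of_isZero_zero hV (SheafHomX.restrict_eq_zero_of_notMem V fun y hy => hy) n
  refine hx (subsingleton_of_forall_eq 0 fun t => ?_)
  obtain ⟨W, hxW, s, rfl⟩ := (G.obj (op n)).presheaf.germ_exist t
  rw [← (G.obj (op n)).presheaf.germ_res_apply (homOfLE (V.ι.image_preimage_le W)) x ⟨⟨x, h0⟩, hxW, rfl⟩ s]
  exact (congrArg _ (congr(($((IsZero.iff_id_eq_zero _).1 hz)).app (V.ι ⁻¹ᵁ W) _))).trans (map_zero _)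

theorem mem_of_modPowπ_eq_zero {I : Ideal A} {n : ℕ} {M : X.Modules} (hM : Coh.IsQCoh M) {U : X.Opens}
    (hU : IsAffineOpen U) (s : Γ(M, U)) (hs : (Formal.modPowπ I n M).app U s = 0) :
    s ∈ (I ^ n).map (FFun.φsec (A := A) U) • (⊤ : Submodule Γ(X, U) Γ(M, U)) :=
  FFun.mem_of_π_app_eq_zero hM (I ^ n) hU hs

theorem app_smul_eq_zero_of_dvd {X : Scheme.{u}} {M N : X.Modules} (φ : M ⟶ N) {U : X.Opens} (b c d : Γ(X, U))
    (hd : c = b * d) (m : Γ(M, U)) (h : b • φ.app U m = 0) : φ.app U (c • m) = 0 := by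
  rw [Scheme.Modules.Hom.app_smul, hd, mul_comm, mul_smul, h, smul_zero]

/-- Nakayama for supports: a map with kernel in `J M`, `J` inside the prime of the point. -/
theorem notMem_support_of_ker_le {X : Scheme.{u}} {M N : X.Modules} (φ : M ⟶ N) (hM : Coh.IsCoh M)
    (hN : Coh.IsQCoh N) {U : X.Opens} (hU : IsAffineOpen U) {x : X} (hxU : x ∈ U) (J : Ideal Γ(X, U))
    (hJ : ∀ a ∈ J, x ∉ X.basicOpen a)
    (hker : ∀ s : Γ(M, U), φ.app U s = 0 → s ∈ J • (⊤ : Submodule Γ(X, U) Γ(M, U)))
    (h : x ∉ CohB1.support N) : x ∉ CohB1.support M := by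
  haveI : Module.Finite Γ(X, U) Γ(M, U) := QCoh.finite_of_isFT hM.1 hM.2 hU
  let P := hU.primeIdealOf ⟨x, hxU⟩
  have hmem : ∀ a : Γ(X, U), x ∈ X.basicOpen a ↔ a ∉ P.asIdeal := fun a => by
    constructor
    · intro ha hP
      have : P ∈ PrimeSpectrum.basicOpen a := by
        rw [← hU.fromSpec_preimage_basicOpen]
        show hU.fromSpec P ∈ X.basicOpen a
        rw [hU.fromSpec_primeIdealOf]; exact ha
      exact this hP
    · intro hP
      have : P ∈ hU.fromSpec ⁻¹ᵁ X.basicOpen a := by rw [hU.fromSpec_preimage_basicOpen]; exact hP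
      rw [show x = hU.fromSpec P from (hU.fromSpec_primeIdealOf ⟨x, hxU⟩).symm]
      exact this
  have hJP : J ≤ P.asIdeal := fun a ha => not_not.1 fun hP => hJ a ha ((hmem a).2 hP)
  obtain ⟨T, hT⟩ := (inferInstance : Module.Finite Γ(X, U) Γ(M, U)).fg_top
  have hn := (QCoh.notMem_support_iff hN hU hxU).1 h
  choose a hxa ha using fun m : Γ(M, U) => hn (φ.app U m)
  let c := ∏ m ∈ T, a m
  have hc : c ∉ P.asIdeal := fun hcP => by
    obtain ⟨m, -, hm⟩ := (Ideal.IsPrime.prod_mem_iff (p := P.asIdeal)).1 hcP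
    exact (hmem _).1 (hxa m) hm
  have hrange : LinearMap.range (c • LinearMap.id : Module.End Γ(X, U) Γ(M, U)) ≤
      J • (⊤ : Submodule Γ(X, U) Γ(M, U)) := by
    rw [LinearMap.range_eq_map, ← hT, Submodule.map_span_le]
    intro m hm
    obtain ⟨d, hd⟩ : a m ∣ c := Finset.dvd_prod_of_mem a hm
    rw [hT]
    exact hker (c • m) (app_smul_eq_zero_of_dvd φ (a m) c d hd m (ha m))
  obtain ⟨q, hq1, -, hq2, hq3⟩ :=
    LinearMap.exists_monic_and_natDegree_eq_and_coeff_mem_pow_and_aeval_eq_zero (R := Γ(X, U))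
      (c • LinearMap.id : Module.End Γ(X, U) Γ(M, U)) J hrange
  refine (QCoh.notMem_support_iff hM.1 hU hxU).2 fun m => ⟨q.eval c, (hmem _).2 fun hP => hc ?_, ?_⟩
  · have h3 : q.eval c - c ^ q.natDegree ∈ P.asIdeal := by
      rw [Polynomial.eval_eq_sum_range, Finset.sum_range_succ, hq1.coeff_natDegree, one_mul, add_sub_cancel_right]
      refine Ideal.sum_mem _ fun k hk => Ideal.mul_mem_right _ _ ?_
      exact hJP (Ideal.pow_le_self (by have := Finset.mem_range.1 hk; omega) (hq2 k))
    exact P.2.mem_of_pow_mem q.natDegree (by simpa using Ideal.sub_mem _ hP h3)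
  · have h4 : Polynomial.aeval (c • LinearMap.id : Module.End Γ(X, U) Γ(M, U)) q =
        algebraMap Γ(X, U) (Module.End Γ(X, U) Γ(M, U)) (q.eval c) := by
      rw [show (c • LinearMap.id : Module.End Γ(X, U) Γ(M, U)) = algebraMap Γ(X, U) _ c from rfl,
        Polynomial.aeval_algebraMap_apply, Polynomial.coe_aeval_eq_eval]
    rw [hq3] at h4
    exact (LinearMap.congr_fun h4 m).symm

/-- A point over the zero locus at which `M / IM` vanishes is outside the support of `M`. -/
theorem notMem_support_of_modPow {I : Ideal A} {M : X.Modules} (hM : Coh.IsCoh M) {x : X}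
    (hx : (X ↘ Spec (CommRingCat.of A)) x ∈ PrimeSpectrum.zeroLocus (I : Set A))
    (h : x ∉ CohB1.support (Formal.modPow I 1 M)) : x ∉ CohB1.support M := by
  obtain ⟨_, ⟨U, hU, rfl⟩, hxU, -⟩ := X.isBasis_affineOpens.exists_subset_of_mem_open (Set.mem_univ x) isOpen_univ
  refine notMem_support_of_ker_le (Formal.modPowπ I 1 M) hM (isQCoh_modPow I 1 hM.1) hU hxU
    ((I ^ 1).map (FFun.φsec (A := A) U)) ?_ (mem_of_modPowπ_eq_zero hM.1 hU) h
  intro b hb hxb
  let P := hU.primeIdealOf ⟨x, hxU⟩
  have hPmem : ∀ a : Γ(X, U), a ∈ P.asIdeal ↔ x ∉ X.basicOpen a := fun a => by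
    rw [show (x ∈ X.basicOpen a) ↔ P ∈ hU.fromSpec ⁻¹ᵁ X.basicOpen a from by
      show _ ↔ hU.fromSpec P ∈ X.basicOpen a
      rw [hU.fromSpec_primeIdealOf], hU.fromSpec_preimage_basicOpen]
    exact not_not.symm
  have hle : (I ^ 1).map (FFun.φsec (A := A) U) ≤ P.asIdeal := Ideal.map_le_iff_le_comap.2 fun a ha => by
    refine (hPmem _).2 fun h1 => ?_
    have h2 : x ∈ X.basicOpen ((X ↘ Spec (CommRingCat.of A)).appTop ((Scheme.ΓSpecIso (CommRingCat.of A)).inv a)) := by
      refine X.basicOpen_res (show Γ(X, ⊤) from Coh.toGlobal (X ↘ Spec (CommRingCat.of A)) a)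
        (homOfLE (le_top : U ≤ ⊤)).op |>.le.trans inf_le_right h1
    rw [← Scheme.preimage_basicOpen_top, basicOpen_eq_of_affine] at h2
    exact h2 (hx (by simpa using ha))
  exact (hPmem b).1 (hle hb) hxb

variable [IsNoetherianRing A]

/-- Algebraization for proper support. -/
theorem exists_algebraization_properSupport (I : Ideal A) [IsAdicComplete I A]
    [IsSeparated (X ↘ Spec (CommRingCat.of A))] [LocallyOfFiniteType (X ↘ Spec (CommRingCat.of A))]
    [QuasiCompact (X ↘ Spec (CommRingCat.of A))] {G : ℕᵒᵖ ⥤ X.Modules} (hG : Formal.IsCohFormal I G)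
    (hGs : ClSub.IsProperOver (X ↘ Spec (CommRingCat.of A)) (CohB1.support (G.obj (op 0)))) :
    ∃ M : X.Modules, Coh.IsCoh M ∧
      ClSub.IsProperOver (X ↘ Spec (CommRingCat.of A)) (CohB1.support M) ∧
      Nonempty (Formal.completion I M ≅ G) := by
  obtain ⟨Xc, j, g, hj, hjq, hg, hjg⟩ := S0384.result (X ↘ Spec (CommRingCat.of A))
  letI : Xc.Over (Spec (CommRingCat.of A)) := ⟨g⟩
  haveI : IsProper (Xc ↘ Spec (CommRingCat.of A)) := hg
  haveI := hj
  haveI := hjq
  haveI := hg
  haveI : IsLocallyNoetherian Xc := LocallyOfFiniteType.isLocallyNoetherian g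
  haveI : IsLocallyNoetherian X := LocallyOfFiniteType.isLocallyNoetherian (X ↘ Spec (CommRingCat.of A))
  have hjg' : j ≫ (Xc ↘ Spec (CommRingCat.of A)) = X ↘ Spec (CommRingCat.of A) := hjg
  let T := CohB1.support (G.obj (op 0))
  obtain ⟨hTc, hTp⟩ := id hGs
  let ιT := (Scheme.IdealSheafData.vanishingIdeal ⟨T, hTc⟩).subschemeι
  haveI hp1 : IsProper (ιT ≫ j) := by
    haveI : IsProper ((ιT ≫ j) ≫ g) := by rw [Category.assoc, hjg]; exact hTp
    exact IsProper.of_comp (ιT ≫ j) g
  let C : Set Xc := Set.range (ιT ≫ j)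
  have hC : IsClosed C := (ιT ≫ j).isClosedMap.isClosed_range
  have hCj : C ⊆ Set.range j := by rintro _ ⟨z, rfl⟩; exact ⟨ιT z, rfl⟩
  have hTC : ∀ x ∈ T, j x ∈ C := fun x hx => by
    obtain ⟨z, rfl⟩ := (QCoh.range_vanishing hTc).ge hx
    exact ⟨z, rfl⟩
  have hsub := support_formal_subset hG
  have hcoh : ∀ n, Coh.IsCoh ((Scheme.Modules.pushforward j).obj (G.obj (op n))) := fun n => by
    refine isCoh_push_properSupport j (hG.1 n) (QCoh.isProperOver_of_subset ιT
      (QCoh.isClosed_support_of_ft (hG.1 n).2) ((hsub n).trans (QCoh.range_vanishing hTc).ge))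
  let G' : ℕᵒᵖ ⥤ Xc.Modules := G ⋙ Scheme.Modules.pushforward j
  have hG' : Formal.IsCohFormal I G' := ⟨hcoh, fun n a ha => by
      haveI : (Scheme.Modules.pushforward j).PreservesZeroMorphisms := ⟨fun _ _ => rfl⟩
      show Formal.smulMod A ((Scheme.Modules.pushforward j).obj (G.obj (op n))) a = 0
      rw [← pushforward_smulMod j hjg', hG.2.1 n a ha, Functor.map_zero],
    fun n => IsQuot.push_open j hjg' (hG.2.2 n) hC hCj (hcoh (n + 1)).1 (fun x hx => hTC x (hsub _ hx))
      fun x hx => hTC x (hsub _ hx)⟩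
  obtain ⟨M', hM', ⟨e⟩⟩ := ExistEasy.exists_algebraization_proper I Xc G' hG'
  have h0 : CohB1.support (Formal.modPow I 1 M') ⊆ C := by
    change CohB1.support ((Formal.completion I M').obj (op 0)) ⊆ C
    rw [QCoh.support_iso (e.app (op 0)) (isQCoh_modPow I 1 hM'.1)]
    exact support_push_subset j hC fun x hx => hTC x hx
  have hsupp : CohB1.support M' ⊆ Set.range j := by
    intro x hx
    by_contra hxj
    have hD : IsClosed (CohB1.support M' ∩ (Set.range j)ᶜ) :=
      (QCoh.isClosed_support_of_ft hM'.2).inter j.isOpenEmbedding.isOpen_range.isClosed_compl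
    obtain ⟨p, ⟨y, hy, rfl⟩, hp⟩ := IsClosed.exists_closed_singleton (g.isClosedMap _ hD) ⟨g x, x, ⟨hx, hxj⟩, rfl⟩
    have hmax : (g y).asIdeal.IsMaximal := (PrimeSpectrum.isClosed_singleton_iff_isMaximal _).1 hp
    have hI : g y ∈ PrimeSpectrum.zeroLocus (I : Set A) := fun a ha =>
      (Ideal.mem_jacobson_bot.1 (IsAdicComplete.le_jacobson_bot I ha) |> fun _ =>
        (show (⊥ : Ideal A).jacobson ≤ (g y).asIdeal from sInf_le ⟨bot_le, hmax⟩)
          (IsAdicComplete.le_jacobson_bot I ha))
    exact notMem_support_of_modPow hM' hI (fun h => hy.2 (hCj (h0 h))) hy.1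
  refine ⟨(Scheme.Modules.restrictFunctor j).obj M', ⟨QCoh.isQCoh_restrict j hM'.1, isFT_restrict j hM'.1 hM'.2⟩, ?_, ?_⟩
  · obtain ⟨Z, i, F, hi, hr, -, -, -⟩ := QCoh.exists_closed_model hM'.1 hM'.2
    haveI := hi
    have hS := QCoh.isClosed_support_of_ft (X := X) (M := M'.restrict j) (isFT_restrict j hM'.1 hM'.2)
    haveI : IsProper (i ≫ g) := inferInstance
    have hrj : Set.range i ⊆ Set.range j := hr ▸ hsupp
    let i' := IsOpenImmersion.lift j i hrj
    have hi' : i' ≫ j = i := IsOpenImmersion.lift_fac j i hrj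
    haveI : IsClosedImmersion i' := by
      haveI : IsClosedImmersion (i' ≫ j) := by rw [hi']; infer_instance
      exact IsClosedImmersion.of_comp i' j
    haveI : IsProper (i' ≫ (X ↘ Spec (CommRingCat.of A))) := by
      rw [← hjg, ← Category.assoc, hi']; infer_instance
    refine QCoh.isProperOver_of_subset i' hS fun x hx => ?_
    have hjx : j x ∈ CohB1.support M' := fun hsub => hx
      (@Equiv.subsingleton _ _ (((Scheme.Modules.restrictStalkNatIso j x).app M').addCommGroupIsoToAddEquiv.toEquiv) hsub)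
    obtain ⟨z, hz⟩ := hr.ge hjx
    exact ⟨z, j.isOpenEmbedding.injective (by rw [← Scheme.Hom.comp_apply, hi', hz])⟩
  · let R := Scheme.Modules.restrictFunctor j
    obtain ⟨a⟩ := nonempty_iso_of_isQuot (Iso.refl (R.obj M'))
      (P := Formal.completion I (R.obj M')) (Q := Formal.completion I M' ⋙ R)
      (fun n => Formal.modPowπ I (n + 1) _) (fun n => R.map (Formal.modPowπ I (n + 1) M'))
      (fun n => isQuot_modPowπ I (n + 1) _) (fun n => (isQuot_modPowπ I (n + 1) M').restrict j hjg')
      (fun n => by rw [completion_map_succ]; exact Formal.modPowπ_trans I (n + 1) _)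
      (fun n => by
        show R.map (Formal.modPowπ I (n + 1 + 1) M') ≫ R.map ((Formal.completion I M').map _) = _
        rw [← Functor.map_comp, completion_map_succ, Formal.modPowπ_trans])
    haveI : IsIso (Scheme.Modules.restrictAdjunction j).counit := inferInstance
    exact ⟨a ≪≫ Functor.isoWhiskerRight e R ≪≫ Functor.associator G _ R ≪≫
      Functor.isoWhiskerLeft G (asIso (Scheme.Modules.restrictAdjunction j).counit) ≪≫ G.rightUnitor⟩

end Groth.Agent.Algz7
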